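import Cfsg.Agent.Lib.ModuleTrick.Quotient

/-!
Twists of an involutory automorphism and `r`-power unipotent elements, for Gross's theorem on the Fitting
height under a fixed-point-free automorphism of 2-power order.
-/

set_option autoImplicit false

namespace CfsgLib.GrossHeight

open Module (End)
open scoped commutatorElement

variable {N : Type*} [Group N]

theorem pow_apply_mem {σ : MulAut N} {H : Subgroup N} (h : ∀ x ∈ H, σ x ∈ H) :
    ∀ (i : ℕ) (x : N), x ∈ H → (σ ^ i) x ∈ H := by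
  intro i
  induction i with
  | zero => intro x hx; exact hx
  | succ i ih => intro x hx; rw [pow_succ', MulAut.mul_apply]; exact h _ (ih x hx)

/-- The automorphism induced on an invariant subgroup. -/
noncomputable def subAut [Finite N] (σ : MulAut N) (H : Subgroup N) (h : ∀ x ∈ H, σ x ∈ H) : MulAut H :=
  MulEquiv.ofBijective (MonoidHom.mk' (fun y : H => (⟨σ y, h y y.2⟩ : H))
    fun a b => Subtype.ext (map_mul σ _ _))
    (Finite.injective_iff_bijective.mp fun _ _ e =>
      Subtype.ext (σ.injective (congrArg Subtype.val e)))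

theorem subAut_pow_coe [Finite N] (σ : MulAut N) (H : Subgroup N) (h : ∀ x ∈ H, σ x ∈ H) (i : ℕ) (y : H) :
    (((subAut σ H h) ^ i) y : N) = (σ ^ i) (y : N) := by
  induction i generalizing y with
  | zero => rfl
  | succ i ih => rw [pow_succ', pow_succ', MulAut.mul_apply, MulAut.mul_apply, ← ih]; rfl

theorem subAut_pow_eq_one [Finite N] (σ : MulAut N) (H : Subgroup N) (h : ∀ x ∈ H, σ x ∈ H) {i : ℕ}
    (hi : σ ^ i = 1) : (subAut σ H h) ^ i = 1 :=
  MulEquiv.ext fun y => Subtype.ext (by rw [subAut_pow_coe, hi]; rfl)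

/-- The subgroup generated by all `g⁻¹ * τ g`. -/
def twists (τ : MulAut N) : Subgroup N := Subgroup.closure (Set.range fun g => g⁻¹ * τ g)

theorem twist_mem (τ : MulAut N) (g : N) : g⁻¹ * τ g ∈ twists τ := Subgroup.subset_closure ⟨g, rfl⟩

theorem twists_normal (τ : MulAut N) : (twists τ).Normal := by
  refine ⟨fun x hx h => ?_⟩
  have hle : twists τ ≤ (twists τ).comap (MulAut.conj h).toMonoidHom := by
    rw [twists, Subgroup.closure_le]
    rintro _ ⟨g, rfl⟩
    show MulAut.conj h (g⁻¹ * τ g) ∈ twists τ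
    have e : MulAut.conj h (g⁻¹ * τ g) = ((g * h⁻¹)⁻¹ * τ (g * h⁻¹)) * (h⁻¹⁻¹ * τ h⁻¹)⁻¹ := by
      rw [MulAut.conj_apply, map_mul, map_inv]
      group
    rw [e]
    exact (twists τ).mul_mem (twist_mem τ _) ((twists τ).inv_mem (twist_mem τ _))
  exact hle hx

theorem map_twists_le {M : Type*} [Group M] (f : N →* M) (τ : MulAut N) (τ' : MulAut M)
    (hf : ∀ g, f (τ g) = τ' (f g)) : (twists τ).map f ≤ twists τ' := by
  rw [Subgroup.map_le_iff_le_comap, twists, Subgroup.closure_le]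
  rintro _ ⟨g, rfl⟩
  rw [SetLike.mem_coe, Subgroup.mem_comap, map_mul, map_inv, hf]
  exact twist_mem τ' (f g)

theorem lcs_mono {S T : Subgroup N} (h : S ≤ T) (k : ℕ) :
    S.lowerCentralSeries k ≤ T.lowerCentralSeries k := by
  induction k with
  | zero => exact h
  | succ k ih =>
    rw [Subgroup.lowerCentralSeries_succ, Subgroup.lowerCentralSeries_succ]
    exact Subgroup.commutator_mono ih h

theorem lcs_normal {S : Subgroup N} (h : S.Normal) (k : ℕ) : (S.lowerCentralSeries k).Normal := by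
  induction k with
  | zero => exact h
  | succ k ih =>
    rw [Subgroup.lowerCentralSeries_succ]
    exact Subgroup.commutator_normal _ _

/-- In odd order every twist of an involutory automorphism is the twist of one of its own powers. -/
theorem exists_twist_eq [Finite N] (hodd : Odd (Nat.card N)) (τ : MulAut N) (hτ : τ ^ 2 = 1) (g : N) :
    ∃ h ∈ Subgroup.zpowers (g⁻¹ * τ g), h⁻¹ * τ h = g⁻¹ * τ g := by
  set d := g⁻¹ * τ g with hd
  have hττ : ∀ a, τ (τ a) = a := fun a => by
    rw [← MulAut.mul_apply, ← pow_two, hτ, MulAut.one_apply]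
  have hinv : τ d = d⁻¹ := by rw [hd, map_mul, map_inv, hττ, mul_inv_rev, inv_inv]
  obtain ⟨m, hm⟩ := Odd.of_dvd_nat hodd (orderOf_dvd_natCard d)
  refine ⟨d ^ m, Subgroup.pow_mem _ (Subgroup.mem_zpowers d) m, ?_⟩
  rw [map_pow, hinv, inv_pow, ← mul_inv_rev, ← pow_add]
  refine inv_eq_of_mul_eq_one_left ?_
  rw [← pow_succ', ← two_mul, ← hm, pow_orderOf_eq_one]

theorem twists_le_map [Finite N] (hodd : Odd (Nat.card N)) (τ : MulAut N) (hτ : τ ^ 2 = 1) (H : Subgroup N)
    (h : ∀ g, g⁻¹ * τ g ∈ H) (τ' : MulAut H) (hcoe : ∀ y : H, (τ' y : N) = τ y) :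
    twists τ ≤ (twists τ').map H.subtype := by
  rw [twists, Subgroup.closure_le]
  rintro _ ⟨g, rfl⟩
  obtain ⟨a, ha, hag⟩ := exists_twist_eq hodd τ hτ g
  have haH : a ∈ H := (Subgroup.zpowers_le.mpr (h g)) ha
  refine ⟨(⟨a, haH⟩ : H)⁻¹ * τ' ⟨a, haH⟩, twist_mem τ' _, ?_⟩
  rw [map_mul, map_inv, Subgroup.coe_subtype, hcoe]
  exact hag

/-- An automorphism of odd-order groups of order two which fixes `x⁻¹ * τ x` fixes `x`. -/
theorem fixed_of_step [Finite N] (hodd : Odd (Nat.card N)) (τ : MulAut N) (hτ : τ ^ 2 = 1) {x : N}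
    (h : τ (x⁻¹ * τ x) = x⁻¹ * τ x) : τ x = x := by
  set y := x⁻¹ * τ x with hy
  have h2 : y ^ 2 = 1 := by
    have e : τ y = y⁻¹ := by
      rw [hy, map_mul, map_inv, ← MulAut.mul_apply, ← pow_two, hτ, MulAut.one_apply, mul_inv_rev, inv_inv]
    rw [pow_two]
    nth_rewrite 1 [← h]
    rw [e, inv_mul_cancel]
  have h1 : orderOf y = 1 := by
    rcases (Nat.dvd_prime Nat.prime_two).mp (orderOf_dvd_of_pow_eq_one h2) with h1 | h1
    · exact h1
    · exact absurd (h1 ▸ Odd.of_dvd_nat hodd (orderOf_dvd_natCard y)) (by decide)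
  exact (inv_mul_eq_one.mp (orderOf_eq_one_iff.mp h1)).symm

variable {K V : Type*} [Field K] [AddCommGroup V] [Module K V]

/-- The image of `c` has `r`-power order. -/
def RPow (γ : N →* End K V) (r : ℕ) (c : N) : Prop := γ (c ^ r ^ orderOf c) = 1

theorem rpow_of [Finite N] (γ : N →* End K V) {r : ℕ} (hr : r.Prime) {c : N} {b : ℕ}
    (h : γ (c ^ r ^ b) = 1) : RPow γ r c := by
  have h1 : c ^ Nat.gcd (r ^ b) (orderOf c) ∈ Subgroup.zpowers (c ^ r ^ b) := by
    refine ⟨Nat.gcdA (r ^ b) (orderOf c), ?_⟩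
    show (c ^ r ^ b) ^ Nat.gcdA (r ^ b) (orderOf c) = _
    rw [← zpow_natCast c (r ^ b), ← zpow_mul, ← zpow_natCast c (Nat.gcd _ _), Nat.gcd_eq_gcd_ab, zpow_add,
      zpow_mul c (orderOf c : ℤ), zpow_natCast c (orderOf c), pow_orderOf_eq_one, one_zpow, mul_one]
  obtain ⟨i, hi⟩ := mem_powers_iff_mem_zpowers.mpr h1
  obtain ⟨v, -, hv⟩ := (Nat.dvd_prime_pow hr).mp (Nat.gcd_dvd_left (r ^ b) (orderOf c))
  have hvle : v ≤ orderOf c := by
    have h2 : r ^ v ≤ orderOf c := hv ▸ Nat.le_of_dvd (orderOf_pos c) (Nat.gcd_dvd_right _ _)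
    exact le_trans (Nat.lt_pow_self hr.one_lt).le h2
  rw [RPow, show r ^ orderOf c = r ^ v * r ^ (orderOf c - v) by rw [← pow_add, Nat.add_sub_cancel' hvle],
    pow_mul, ← hv, ← hi]
  show γ (((c ^ r ^ b) ^ i) ^ _) = 1
  rw [map_pow, map_pow, h, one_pow, one_pow]

theorem rpow_of_map [Finite N] {M : Type*} [Group M] (f : N →* M) (γ' : M →* End K V) (γ : N →* End K V)
    (hf : ∀ g, γ g = γ' (f g)) {r : ℕ} (hr : r.Prime) {c : N} (h : RPow γ' r (f c)) : RPow γ r c :=
  rpow_of γ hr (b := orderOf (f c)) (by rw [hf, map_pow]; exact h)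

theorem rpow_subtype (γ : N →* End K V) (H : Subgroup N) {r : ℕ} {y : H}
    (h : RPow (γ.comp H.subtype) r y) : RPow γ r (y : N) := by
  unfold RPow at h ⊢
  rw [Subgroup.orderOf_coe]
  exact h

/-- The representation on an invariant subspace. -/
def subRep (γ : N →* End K V) (W : Submodule K V) (h : ∀ g, ∀ w ∈ W, γ g w ∈ W) : N →* End K W where
  toFun g := (γ g).restrict (h g)
  map_one' := LinearMap.ext fun w => Subtype.ext (by
    show γ 1 (w : V) = w
    rw [map_one]; rfl)
  map_mul' a b := LinearMap.ext fun w => Subtype.ext (by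
    show γ (a * b) (w : V) = γ a (γ b w)
    rw [map_mul]; rfl)

/-- The representation on the quotient by an invariant subspace. -/
def quotRep (γ : N →* End K V) (W : Submodule K V) (h : ∀ g, ∀ w ∈ W, γ g w ∈ W) : N →* End K (V ⧸ W) where
  toFun g := W.mapQ W (γ g) (h g)
  map_one' := by
    refine Submodule.linearMap_qext _ (LinearMap.ext fun v => ?_)
    simp [Submodule.mapQ_apply]
  map_mul' a b := by
    refine Submodule.linearMap_qext _ (LinearMap.ext fun v => ?_)
    simp [Submodule.mapQ_apply]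

theorem rpow_glue [Finite N] (γ : N →* End K V) (W : Submodule K V) (h : ∀ g, ∀ w ∈ W, γ g w ∈ W) {r : ℕ}
    [hr : Fact r.Prime] [CharP K r] [Nontrivial (End K V)] {c : N} (h1 : RPow (subRep γ W h) r c)
    (h2 : RPow (quotRep γ W h) r c) : RPow γ r c := by
  set d := c ^ r ^ orderOf c with hd
  have hW : ∀ w ∈ W, γ d w = w := fun w hw => congrArg Subtype.val (LinearMap.congr_fun h1 ⟨w, hw⟩)
  have hQ : ∀ v, γ d v - v ∈ W := fun v => by
    have := LinearMap.congr_fun h2 (Submodule.Quotient.mk v)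
    exact (Submodule.Quotient.eq W).mp this
  have hsq : (γ d - 1) * (γ d - 1) = 0 := LinearMap.ext fun v => by
    rw [Module.End.mul_apply, LinearMap.sub_apply, LinearMap.sub_apply, Module.End.one_apply]
    exact sub_eq_zero.mpr (hW _ (hQ v))
  have : CharP (End K V) r := charP_of_injective_ringHom (algebraMap K (End K V)).injective r
  have h3 : (γ d - 1) ^ r = 0 := by
    rw [← Nat.sub_add_cancel hr.out.two_le, pow_add, pow_two, hsq, mul_zero]
  rw [sub_pow_char_of_commute r (Commute.one_right (γ d)), one_pow, sub_eq_zero, ← map_pow, hd, ← pow_mul,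
    ← pow_succ] at h3
  exact rpow_of γ hr.out h3

theorem isPGroup_of_rpow [Finite N] (γ : N →* End K V) (hγ : Function.Injective γ) {r : ℕ} (S : Subgroup N)
    (h : ∀ c ∈ S, RPow γ r c) : IsPGroup r S := fun ⟨c, hc⟩ =>
  ⟨orderOf c, Subtype.ext (hγ ((h c hc).trans (map_one γ).symm))⟩

end CfsgLib.GrossHeight
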