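import Cfsg.Agent.Lib.HallHigman.FullyRamified
import Cfsg.Agent.Lib.HallHigman.CoprimeTools
import Cfsg.Agent.Lib.OddOrder41.SymplecticBound

/-!
The dimension count for an operator acting freely on a group of symplectic type modulo its centre.
-/

set_option autoImplicit false

namespace CfsgLib.GrossHeight

open Module (End)
open CfsgLib.HallHigman CfsgLib.OddOrder41.RootProj CfsgLib.OddOrder41.SymplecticCount
open scoped commutatorElement

variable {K V : Type*} [Field K] [IsAlgClosed K] [AddCommGroup V] [Module K V] [FiniteDimensional K V]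
  [Nontrivial V] {R : Type*} [Group R] [Finite R] (ρ : R →* End K V) (hinj : Function.Injective ρ)
  (hscal : ∀ z ∈ Subgroup.center R, ∃ c : K, ρ z = c • 1)
  (hcl : ∀ a b : R, ⁅a, b⁆ ∈ Subgroup.center R) (hne : Subgroup.center R ≠ ⊤)
  (σ : MulAut R) {P : ℕ} (hσ : σ ^ P = 1) (S : End K V) (hS : S ^ P = 1)
  (hSρ : ∀ a, S * ρ a = ρ (σ a) * S)
  (hfree : ∀ i, 0 < i → i < P → ∀ a, a⁻¹ * (σ ^ i) a ∈ Subgroup.center R → a ∈ Subgroup.center R)

include hinj hscal hcl hne hσ hS hSρ hfree

set_option maxHeartbeats 1000000 in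
theorem exists_block (hP : 1 < P) :
    ∃ (U : Submodule K V) (π : R →* End K U) (T : End K U) (f : U →ₗ[K] V),
      T ^ P = 1 ∧ IsIrred π ∧ Function.Injective f ∧ (∀ a u, ρ a (f u) = f (π a u)) ∧ (∀ u, S (f u) = f (T u)) ∧
      (∀ a, T * π a = π (σ a) * T) ∧
      (Subgroup.center R).index = Module.finrank K U ^ 2 ∧ 2 ≤ Module.finrank K U ∧
      ∃ o : ℕ, Module.finrank K (commSub T) ≤ o + 1 ∧ P * o + 1 = Module.finrank K U ^ 2 := by
  classical
  obtain ⟨U, ⟨hU0, hUinv⟩, hUmin⟩ := exists_minimal_of_wellFoundedLT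
    (fun U : Submodule K V => U ≠ ⊥ ∧ ∀ a, ∀ w ∈ U, ρ a w ∈ U)
    ⟨⊤, top_ne_bot, fun _ _ _ => trivial⟩
  haveI : Nontrivial U := Submodule.nontrivial_iff_ne_bot.mpr hU0
  obtain ⟨u₀, hu₀⟩ := exists_ne (0 : U)
  let π : R →* End K U :=
    { toFun := fun a => (ρ a).restrict (hUinv a)
      map_one' := LinearMap.ext fun w => Subtype.ext (by show ρ 1 (w : V) = w; rw [map_one]; rfl)
      map_mul' := fun a b => LinearMap.ext fun w => Subtype.ext (by
        show ρ (a * b) (w : V) = ρ a (ρ b w)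
        rw [map_mul]; rfl) }
  have hirr : IsIrred π := by
    intro W hW
    by_cases h : W = ⊥
    · exact Or.inl h
    refine Or.inr ?_
    have hle : W.map U.subtype ≤ U := Submodule.map_subtype_le U W
    have h1 := hUmin (y := W.map U.subtype) ⟨?_, ?_⟩ hle
    · refine Submodule.map_injective_of_injective U.injective_subtype ?_
      rw [Submodule.map_top, Submodule.range_subtype]
      exact le_antisymm hle h1
    · intro e
      exact h (Submodule.map_injective_of_injective U.injective_subtype (by rw [e, Submodule.map_bot]))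
    · rintro a _ ⟨w, hw, rfl⟩
      exact ⟨π a w, hW a w hw, rfl⟩
  have hscalU : ∀ z ∈ Subgroup.center R, ∀ c : K, ρ z = c • 1 → π z = c • 1 := fun z _ c hc =>
    LinearMap.ext fun w => Subtype.ext (by show ρ z (w : V) = _; rw [hc]; rfl)
  have hram : IsFullyRamified π := fun g hg => by
    rw [Subgroup.mem_center_iff]
    intro h
    obtain ⟨c, hc⟩ := hscal _ (hcl g h)
    have h1 : π ⁅g, h⁆ = 1 := by
      rw [commutatorElement_def, map_mul, map_mul, map_mul, hg h, mul_assoc (π h), map_mul_map_inv,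
        mul_one, map_mul_map_inv]
    rw [hscalU _ (hcl g h) c hc] at h1
    have h2 : (c - 1) • u₀ = 0 := by
      rw [sub_smul, one_smul, sub_eq_zero]
      exact LinearMap.congr_fun h1 u₀
    rw [sub_eq_zero.mp ((smul_eq_zero.mp h2).resolve_right hu₀), one_smul, ← map_one ρ] at hc
    exact (commutatorElement_eq_one_iff_mul_comm.mp (hinj hc)).symm
  have hSinv : S * S ^ (P - 1) = 1 := by rw [← pow_succ', Nat.sub_add_cancel hP.le, hS]
  have hσz : ∀ z ∈ Subgroup.center R, π (σ z) = π z := fun z hz => by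
    obtain ⟨c, hc⟩ := hscal z hz
    have h1 : ρ (σ z) = c • 1 := by
      calc ρ (σ z) = ρ (σ z) * (S * S ^ (P - 1)) := by rw [hSinv, mul_one]
        _ = (S * ρ z) * S ^ (P - 1) := by rw [← mul_assoc, hSρ]
        _ = c • 1 := by rw [hc, mul_smul_comm, mul_one, smul_mul_assoc, hSinv]
    rw [hscalU z hz c hc, hscalU (σ z) ((Subgroup.characteristic_iff_map_le.mp inferInstance σ)
      (Subgroup.mem_map_of_mem σ.toMonoidHom hz)) c h1]
  obtain ⟨T₀, hT₀, hT₀ρ⟩ := exists_twist hirr hcl hram σ (by omega : 0 < P) hσ hσz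
  obtain ⟨f, μ, hμ, hf0, hfg, hfS⟩ := exists_equivariant_map_up_to_root π ρ σ T₀ S (P := P) (by omega)
    hT₀ hS hT₀ρ hSρ U.subtype (fun e => hu₀ (Subtype.ext (LinearMap.congr_fun e u₀))) (fun g => rfl)
  set T := μ • T₀ with hTdef
  have hTP : T ^ P = 1 := by rw [hTdef, smul_pow, hμ, hT₀, one_smul]
  have hTρ : ∀ g, T * π g = π (σ g) * T := fun g => by
    rw [hTdef, smul_mul_assoc, hT₀ρ, mul_smul_comm]
  have hfg' : ∀ a u, ρ a (f u) = f (π a u) := fun a u => LinearMap.congr_fun (hfg a) u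
  have hfinj : Function.Injective f := by
    rw [← LinearMap.ker_eq_bot]
    refine (hirr _ fun g w hw => ?_).resolve_right fun h => hf0 (LinearMap.ker_eq_top.mp h)
    rw [LinearMap.mem_ker] at hw ⊢
    rw [← hfg', hw, map_zero]
  set Z := Subgroup.center R
  let bas := Module.Basis.mk (linearIndependent_cosetOp hirr hcl hram) (span_cosetOp_eq_top hirr).ge
  have hmap : Z.map σ.toMonoidHom = Z := Subgroup.characteristic_iff_map_eq.mp inferInstance σ
  let σq : MulAut (R ⧸ Z) := QuotientGroup.congr _ _ σ hmap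
  let perm : Equiv.Perm (R ⧸ Z) := σq.toEquiv
  have hperm : ∀ (i : ℕ) (g : R), (perm ^ i) (g : R ⧸ Z) = (((σ ^ i) g : R) : R ⧸ Z) := by
    intro i
    induction i with
    | zero => intro g; rfl
    | succ i ih =>
      intro g
      rw [pow_succ, Equiv.Perm.mul_apply, pow_succ σ, MulAut.mul_apply, ← ih (σ g)]
      rfl
  have hperm1 : perm ^ P = 1 := Equiv.ext fun a => QuotientGroup.induction_on a fun g => by
    rw [hperm, hσ]; rfl
  have hpermfree : ∀ a : R ⧸ Z, a ≠ 1 → ∀ i, 0 < i → i < P → (perm ^ i) a ≠ a := fun a =>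
    QuotientGroup.induction_on a fun g => fun hg i hi0 hiP hfx => by
      rw [hperm] at hfx
      exact hg ((QuotientGroup.eq_one_iff g).mpr (hfree i hi0 hiP g (QuotientGroup.eq.mp hfx.symm)))
  have hconj : ∀ a, ∃ c : K, T * bas a = c • (bas (perm a) * T) := fun a => by
    obtain ⟨c, -, hc⟩ := exists_smul_cosetOp hirr (σ a.out)
    refine ⟨c, ?_⟩
    simp only [bas, Module.Basis.mk_apply]
    have hidx : ((σ a.out : R) : R ⧸ Z) = perm a := by
      rw [← pow_one σ, ← hperm, QuotientGroup.out_eq', pow_one]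
    rw [hidx] at hc
    rw [show cosetOp π a = π a.out from rfl, hTρ, hc, smul_mul_assoc]
  have hcard := card_orbits perm (1 : R ⧸ Z) (by omega : 0 < P) (map_one σq) hperm1 hpermfree
  have hle := finrank_centralizer_le T (by omega : 0 < P) hTP bas perm hconj
  have hcomm : LinearMap.ker (LinearMap.mulLeft K T - LinearMap.mulRight K T) = commSub T := by
    ext A
    rw [LinearMap.mem_ker, LinearMap.sub_apply, LinearMap.mulLeft_apply, LinearMap.mulRight_apply, sub_eq_zero]
    rfl
  rw [hcomm] at hle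
  have hN : Module.finrank K U ^ 2 = Nat.card (R ⧸ Z) := finrank_sq hirr hcl hram
  have hN2 : 2 ≤ Module.finrank K U := by
    by_contra hlt
    refine hne (Subgroup.index_eq_one.mp ?_)
    rw [Subgroup.index_eq_card, ← hN]
    have := Module.finrank_pos (R := K) (M := U)
    rw [show Module.finrank K U = 1 by omega]
    rfl
  have hRZ : 1 ≤ Nat.card (R ⧸ Z) := Nat.card_pos
  refine ⟨U, π, T, f, hTP, hirr, hfinj, hfg', hfS, hTρ, ?_, hN2,
    Nat.card (Quotient (Equiv.Perm.SameCycle.setoid perm)) - 1, by omega, ?_⟩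
  · rw [Subgroup.index_eq_card, hN]
  · rw [hcard, hN]; omega

/-- Without fixed vectors the group has order `(P - 1) ^ 2` modulo its centre, and the operator on the
multiplicity spaces is determined. -/
theorem block_of_no_fixed (hP : 1 < P) (hPK : (P : K) ≠ 0) (hnf : ∀ v, S v = v → v = 0) :
    (Subgroup.center R).index = (P - 1) ^ 2 ∧
    ∃ (U : Submodule K V) (π : R →* End K U) (T : End K U) (f : U →ₗ[K] V), f ≠ 0 ∧ T ^ P = 1 ∧
      (∀ a u, ρ a (f u) = f (π a u)) ∧
      ∀ g : U →ₗ[K] V, (∀ a u, ρ a (g u) = g (π a u)) → ∀ u, S (g u) = g (T u) := by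
  classical
  obtain ⟨U, π, T, f, hTP, hirr, hfinj, hfg, hfS, hTρ, hidx, hN2, o, hC, ho⟩ :=
    exists_block ρ hinj hscal hcl hne σ hσ S hS hSρ hfree hP
  haveI : NeZero (P : K) := ⟨hPK⟩
  obtain ⟨ζ, hζ⟩ := HasEnoughRootsOfUnity.exists_primitiveRoot K P
  obtain ⟨hd1, hd2⟩ := eigen_blocks_le hζ hPK T hTP
  set N := Module.finrank K U with hNdef
  set m : Fin P → ℕ := fun i => Module.finrank K (eigen ζ T i) with hm
  have hm0 : m ⟨0, by omega⟩ = 0 := by
    show Module.finrank K (eigen ζ T 0) = 0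
    rw [Submodule.finrank_eq_zero, Submodule.eq_bot_iff]
    intro w hw
    rw [mem_eigen, pow_zero, one_smul] at hw
    exact hfinj (by rw [hnf (f w) (by rw [hfS, hw]), map_zero])
  set s := Finset.univ.erase (⟨0, by omega⟩ : Fin P) with hs
  have hsum : ∀ g : Fin P → ℕ, g ⟨0, by omega⟩ = 0 → ∑ i, g i = ∑ i ∈ s, g i := fun g hg => by
    rw [← Finset.add_sum_erase _ _ (Finset.mem_univ (⟨0, by omega⟩ : Fin P)), hg, zero_add]
  have hscard : s.card = P - 1 := by
    rw [hs, Finset.card_erase_of_mem (Finset.mem_univ _), Finset.card_univ, Fintype.card_fin]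
  have hsq : ∑ i, m i * m i ≤ o + 1 := hd2.trans hC
  have hNsum : N ≤ ∑ i, m i := hd1
  have hself : ∑ i, m i ≤ ∑ i, m i * m i := Finset.sum_le_sum fun i _ => Nat.le_mul_self _
  have hNo : N ≤ o + 1 := hNsum.trans (hself.trans hsq)
  have hN4 : N * N ≤ (P - 1) * (o + 1) := by
    calc N * N ≤ (∑ i ∈ s, m i) * (∑ i ∈ s, m i) := by
          rw [← hsum m hm0]; exact Nat.mul_le_mul hNsum hNsum
      _ = (∑ i ∈ s, m i) ^ 2 := (pow_two _).symm
      _ ≤ s.card * ∑ i ∈ s, (m i) ^ 2 := by exact_mod_cast sq_sum_le_card_mul_sum_sq (s := s) (f := m)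
      _ ≤ (P - 1) * (o + 1) := by
        rw [hscard, hsum (fun i => m i * m i) (by simp [hm0])] at *
        refine Nat.mul_le_mul_left _ (le_trans (le_of_eq ?_) hsq)
        exact Finset.sum_congr rfl fun i _ => pow_two _
  obtain ⟨Q, hQ⟩ : ∃ Q, P = Q + 1 := ⟨P - 1, by omega⟩
  rw [hQ, Nat.add_sub_cancel] at hN4
  rw [pow_two, hQ] at ho
  have hNQ : N ≤ Q := by nlinarith
  have hQN : Q ≤ N := by
    by_contra hlt
    nlinarith
  have hNP : N = P - 1 := by omega
  have ho1 : o + 1 = N := by nlinarith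
  refine ⟨by rw [hidx, hNP], U, π, T, f, fun e => ?_, hTP, hfg, fun g hg => ?_⟩
  · haveI : Nontrivial U := Module.nontrivial_of_finrank_pos (R := K) (show 0 < N by omega)
    obtain ⟨u, hu⟩ := exists_ne (0 : U)
    exact hu (hfinj (by rw [e]; rfl))
  -- every eigenvalue different from one occurs
  have hall : ∀ i : Fin P, (i : ℕ) ≠ 0 → eigen ζ T i ≠ ⊥ := by
    intro i hi he
    have hz : m i = 0 := by show Module.finrank K (eigen ζ T i) = 0; rw [he, finrank_bot]
    have hle1 : ∀ j ∈ s, m j ≤ 1 := by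
      intro j hj
      by_contra hj2
      have : ∑ i, m i < ∑ i, m i * m i :=
        Finset.sum_lt_sum (fun i _ => Nat.le_mul_self _) ⟨j, Finset.mem_univ _, by nlinarith⟩
      omega
    have hlt : ∑ j ∈ s, m j < ∑ j ∈ s, 1 :=
      Finset.sum_lt_sum hle1 ⟨i, Finset.mem_erase.mpr ⟨fun e => hi (congrArg Fin.val e), Finset.mem_univ _⟩,
        by omega⟩
    rw [← hsum m hm0, Finset.sum_const, hscard, smul_eq_mul, mul_one] at hlt
    omega
  -- so the operator induced on the equivariant maps is trivial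
  let M : Submodule K (U →ₗ[K] V) :=
    { carrier := {g | ∀ a u, ρ a (g u) = g (π a u)}
      add_mem' := fun {x y} hx hy a u => by simp [hx a u, hy a u]
      zero_mem' := fun a u => by simp
      smul_mem' := fun c x hx a u => by simp [hx a u] }
  set T' := T ^ (P - 1) with hT'
  have hTT' : T * T' = 1 := by rw [hT', ← pow_succ', Nat.sub_add_cancel hP.le, hTP]
  have hT'T : T' * T = 1 := by rw [hT', ← pow_succ, Nat.sub_add_cancel hP.le, hTP]
  let L : (U →ₗ[K] V) →ₗ[K] (U →ₗ[K] V) :=
    { toFun := fun g => S ∘ₗ g ∘ₗ T'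
      map_add' := fun x y => by ext; simp
      map_smul' := fun c x => by ext; simp }
  have hLM : ∀ g ∈ M, L g ∈ M := by
    intro g hg a u
    show ρ a (S (g (T' u))) = S (g (T' (π a u)))
    obtain ⟨b, rfl⟩ := σ.surjective a
    have h1 : T' (π (σ b) u) = π b (T' u) := by
      have h2 := LinearMap.congr_fun (hTρ b) (T' u)
      rw [Module.End.mul_apply, Module.End.mul_apply, ← Module.End.mul_apply T T', hTT',
        Module.End.one_apply] at h2
      rw [← h2, ← Module.End.mul_apply T' T, hT'T, Module.End.one_apply]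
    rw [h1, ← hg b (T' u), ← Module.End.mul_apply S, hSρ, Module.End.mul_apply]
  set LM := L.restrict hLM with hLMdef
  have hiter : ∀ (i : ℕ) (x : U →ₗ[K] V), (L ^ i) x = (S ^ i) ∘ₗ x ∘ₗ (T' ^ i) := by
    intro i
    induction i with
    | zero => intro x; ext; simp
    | succ i ih =>
      intro x
      rw [pow_succ', Module.End.mul_apply, ih, pow_succ' S, pow_succ T']
      rfl
  have hLMpow : ∀ (i : ℕ) (x : M), ((LM ^ i) x : U →ₗ[K] V) = (L ^ i) (x : U →ₗ[K] V) := by
    intro i
    induction i with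
    | zero => intro x; rfl
    | succ i ih => intro x; rw [pow_succ', pow_succ', Module.End.mul_apply, Module.End.mul_apply, ← ih]; rfl
  have hLMP : LM ^ P = 1 := LinearMap.ext fun x => Subtype.ext (by
    rw [hLMpow, hiter, hS, hT', ← pow_mul, mul_comm, pow_mul, hTP, one_pow]
    rfl)
  have heig : ∀ ν : K, ∀ x : M, x ≠ 0 → LM x = ν • x → ν = 1 := by
    intro ν x hx hxν
    by_contra hν
    have hx0 : (x : U →ₗ[K] V) ≠ 0 := fun e => hx (Subtype.ext e)
    have hker : ∀ u, (x : U →ₗ[K] V) u = 0 → u = 0 := fun u hu => by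
      have h1 : LinearMap.ker (x : U →ₗ[K] V) = ⊥ := (hirr _ fun a w hw => by
        rw [LinearMap.mem_ker] at hw ⊢
        rw [← x.2, hw, map_zero]).resolve_right fun h => hx0 (LinearMap.ker_eq_top.mp h)
      exact LinearMap.ker_eq_bot'.mp h1 u hu
    have hνP : ν ^ P = 1 := by
      have h1 : ∀ i : ℕ, (LM ^ i) x = ν ^ i • x := by
        intro i
        induction i with
        | zero => simp
        | succ i ih => rw [pow_succ', Module.End.mul_apply, ih, map_smul, hxν, smul_smul, ← pow_succ]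
      have h2 := h1 P
      rw [hLMP, Module.End.one_apply] at h2
      exact smul_left_injective K hx (show ν ^ P • x = (1 : K) • x by rw [← h2, one_smul])
    haveI : NeZero P := ⟨by omega⟩
    obtain ⟨j, hj, hjν⟩ := hζ.eq_pow_of_pow_eq_one hνP
    have hj0 : j ≠ 0 := fun e => hν (by rw [← hjν, e, pow_zero])
    obtain ⟨w, hw, hw0⟩ := (Submodule.ne_bot_iff _).mp (hall ⟨P - j, by omega⟩ (show P - j ≠ 0 by omega))
    rw [mem_eigen] at hw
    refine hw0 (hker w (hnf _ ?_))
    have h1 : S ((x : U →ₗ[K] V) (T' (T w))) = ν • (x : U →ₗ[K] V) (T w) :=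
      LinearMap.congr_fun (congrArg Subtype.val hxν) (T w)
    rw [← Module.End.mul_apply T', hT'T, Module.End.one_apply, hw, map_smul, smul_smul, ← hjν, ← pow_add,
      show j + (P - j) = P by omega, hζ.pow_eq_one, one_smul] at h1
    exact h1
  have hLM1 : LM = 1 := by
    by_contra hne1
    obtain ⟨x, hx⟩ : ∃ x, LM x ≠ x := by
      by_contra hcon
      push Not at hcon
      exact hne1 (LinearMap.ext hcon)
    set Nm := ∑ i ∈ Finset.range P, LM ^ i with hNm
    have hker : LM x - x ∈ LinearMap.ker Nm := by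
      rw [LinearMap.mem_ker]
      have e := geom_sum_mul LM P
      rw [hLMP, sub_self] at e
      exact LinearMap.congr_fun e x
    have hinv : ∀ y ∈ LinearMap.ker Nm, LM y ∈ LinearMap.ker Nm := by
      intro y hy
      rw [LinearMap.mem_ker] at hy ⊢
      rw [← Module.End.mul_apply, (Commute.sum_left _ _ _ fun i _ => (Commute.refl LM).pow_left i : Commute Nm LM).eq,
        Module.End.mul_apply, hy, map_zero]
    haveI : Nontrivial (LinearMap.ker Nm) :=
      Submodule.nontrivial_iff_ne_bot.mpr fun e => hx (sub_eq_zero.mp ((Submodule.mem_bot K).mp (e ▸ hker)))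
    obtain ⟨ν, hν⟩ := Module.End.exists_eigenvalue (K := K) (V := LinearMap.ker Nm) (LM.restrict hinv)
    obtain ⟨⟨y, hy⟩, hyv⟩ := hν.exists_hasEigenvector
    have hy0 : y ≠ 0 := fun e => hyv.2 (Subtype.ext e)
    have hyν : LM y = ν • y := congrArg Subtype.val hyv.apply_eq_smul
    rw [heig ν y hy0 hyν, one_smul] at hyν
    have hfix : ∀ i : ℕ, (LM ^ i) y = y := by
      intro i
      induction i with
      | zero => rfl
      | succ i ih => rw [pow_succ', Module.End.mul_apply, ih, hyν]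
    rw [LinearMap.mem_ker, hNm, LinearMap.sum_apply, Finset.sum_congr rfl fun i _ => hfix i,
      Finset.sum_const, Finset.card_range, ← Nat.cast_smul_eq_nsmul K] at hy
    exact hy0 ((smul_eq_zero.mp hy).resolve_left hPK)
  intro u
  have h1 := LinearMap.congr_fun (congrArg Subtype.val (LinearMap.congr_fun hLM1 ⟨g, hg⟩)) (T u)
  change S (g (T' (T u))) = g (T u) at h1
  rwa [← Module.End.mul_apply T', hT'T, Module.End.one_apply] at h1

/-- With a fixed space of codimension at most two only `P = 4` and index nine remain. -/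
theorem block_of_rank_le_two (hP : 4 ≤ P) (hPK : (P : K) ≠ 0) (hodd : Odd (Nat.card R))
    (hrank : Module.finrank K (LinearMap.range (S - 1)) ≤ 2) :
    (Subgroup.center R).index = 9 ∧ P = 4 := by
  classical
  obtain ⟨U, π, T, f, hTP, hirr, hfinj, hfg, hfS, hTρ, hidx, hN2, o, hC, ho⟩ :=
    exists_block ρ hinj hscal hcl hne σ hσ S hS hSρ hfree (by omega)
  haveI : NeZero (P : K) := ⟨hPK⟩
  obtain ⟨ζ, hζ⟩ := HasEnoughRootsOfUnity.exists_primitiveRoot K P
  obtain ⟨hd1, hd2⟩ := eigen_blocks_le hζ hPK T hTP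
  set N := Module.finrank K U with hNdef
  set m : Fin P → ℕ := fun i => Module.finrank K (eigen ζ T i) with hm
  have hsq : ∑ i, m i * m i ≤ o + 1 := hd2.trans hC
  have hNo : N ≤ o + 1 :=
    (hd1.trans (Finset.sum_le_sum fun i _ => Nat.le_mul_self (m i))).trans hsq
  have hrT : Module.finrank K (LinearMap.range (T - 1)) ≤ 2 := by
    refine le_trans ?_ hrank
    rw [(Submodule.equivMapOfInjective f hfinj (LinearMap.range (T - 1))).finrank_eq]
    refine Submodule.finrank_mono ?_
    rintro _ ⟨_, ⟨u, rfl⟩, rfl⟩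
    exact ⟨f u, by simp [hfS]⟩
  have hm0 : N - 2 ≤ m ⟨0, by omega⟩ := by
    have h1 := LinearMap.finrank_range_add_finrank_ker (T - 1)
    have h2 : LinearMap.ker (T - 1) = eigen ζ T 0 := by
      ext w; simp [mem_eigen, sub_eq_zero]
    rw [h2] at h1
    show N - 2 ≤ Module.finrank K (eigen ζ T 0)
    omega
  have hm0sq : (N - 2) * (N - 2) ≤ o + 1 := le_trans (Nat.mul_le_mul hm0 hm0)
    (le_trans (Finset.single_le_sum (f := fun i => m i * m i) (fun i _ => Nat.zero_le _)
      (Finset.mem_univ (⟨0, by omega⟩ : Fin P))) hsq)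
  have hNodd : Odd N := by
    have h1 : Odd ((Subgroup.center R).index) := Odd.of_dvd_nat hodd (Subgroup.index_dvd_card _)
    rw [hidx] at h1
    exact (Nat.odd_pow_iff (by norm_num)).mp h1
  obtain ⟨j, hj⟩ := hNodd
  rw [pow_two] at ho
  have hPN : P ≤ N + 1 := by nlinarith
  have hN3 : N = 3 := by
    by_contra hne3
    have hN5 : 5 ≤ N := by omega
    obtain ⟨e, he⟩ : ∃ e, N = e + 2 := ⟨N - 2, by omega⟩
    rw [he, Nat.add_sub_cancel] at hm0sq
    nlinarith
  rw [hN3] at hPN hidx
  exact ⟨hidx, by omega⟩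

end CfsgLib.GrossHeight
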