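import Cfsg.Agent.Lib.GrossHeight.Basic
import Cfsg.Agent.Lib.HallHigman.CharSpace

/-!
The eigencharacters of an abelian normal subgroup invariant under a semilinear operator.
-/

set_option autoImplicit false

namespace CfsgLib.GrossHeight

open Module (End)

variable {K V : Type*} [Field K] [AddCommGroup V] [Module K V] {N : Type*} [Group N]
  (γ : N →* End K V) (A : Subgroup N)

/-- The vectors on which `A` acts through the function `χ`. -/
def eigSpace (χ : A → K) : Submodule K V where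
  carrier := {w | ∀ a : A, γ a w = χ a • w}
  add_mem' := fun {v w} hv hw a => by rw [map_add, hv a, hw a, smul_add]
  zero_mem' := fun a => by rw [map_zero, smul_zero]
  smul_mem' := fun c w hw a => by rw [map_smul, hw a, smul_comm]

/-- The eigencharacters occurring. -/
def eigChars : Set (A → K) := {χ | eigSpace γ A χ ≠ ⊥}

theorem eigChars_finite [Finite N] [FiniteDimensional K V] : (eigChars γ A).Finite := by
  refine Set.Finite.subset (Set.Finite.pi fun a : A => Module.End.finite_hasEigenvalue (γ a)) ?_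
  intro χ hχ a _
  obtain ⟨w, hw, hw0⟩ := (Submodule.ne_bot_iff _).mp hχ
  exact Module.End.hasEigenvalue_of_hasEigenvector ⟨Module.End.mem_eigenspace_iff.mpr (hw a), hw0⟩

theorem exists_common_eigen [IsAlgClosed K] [FiniteDimensional K V] {ι : Type*}
    (T : ι → End K V) (hT : ∀ a b, Commute (T a) (T b)) (W : Submodule K V) (hW : W ≠ ⊥)
    (hinv : ∀ a, ∀ w ∈ W, T a w ∈ W) : ∃ w ∈ W, w ≠ 0 ∧ ∀ a, ∃ c : K, T a w = c • w := by
  induction hd : Module.finrank K W using Nat.strongRecOn generalizing W with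
  | _ d ih =>
    by_cases h : ∀ a, ∃ c : K, ∀ w ∈ W, T a w = c • w
    · obtain ⟨w, hw, hw0⟩ := (Submodule.ne_bot_iff W).1 hW
      exact ⟨w, hw, hw0, fun a => (h a).imp fun c hc => hc w hw⟩
    push Not at h
    obtain ⟨a, ha⟩ := h
    haveI : Nontrivial W := (Submodule.nontrivial_iff_ne_bot).2 hW
    obtain ⟨c, hc⟩ := Module.End.exists_eigenvalue ((T a).restrict (hinv a))
    obtain ⟨v, hv, hv0⟩ := hc.exists_hasEigenvector
    rw [Module.End.mem_eigenspace_iff] at hv
    let W' : Submodule K V := W ⊓ LinearMap.ker (T a - c • (1 : End K V))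
    have hmem : ∀ w, w ∈ W' ↔ w ∈ W ∧ T a w = c • w := fun w => by simp [W', sub_eq_zero]
    have hW' : W' ≠ ⊥ := (Submodule.ne_bot_iff W').2
      ⟨v, (hmem _).2 ⟨v.2, congrArg Subtype.val hv⟩, fun e => hv0 (Subtype.ext e)⟩
    have hlt : W' < W := lt_of_le_of_ne inf_le_left fun e => by
      obtain ⟨w, hw, hw'⟩ := ha c
      exact hw' (((hmem w).1 (e.symm ▸ hw)).2)
    obtain ⟨w, hw, hw0, hw'⟩ := ih _ (hd ▸ Submodule.finrank_lt_finrank_of_lt hlt) W' hW'
      (fun b w hw => by
        rw [hmem] at hw ⊢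
        refine ⟨hinv b w hw.1, ?_⟩
        rw [← Module.End.mul_apply, (hT a b).eq, Module.End.mul_apply, hw.2, map_smul]) rfl
    exact ⟨w, hlt.le hw, hw0, hw'⟩

variable [hn : A.Normal]

theorem conj_apply_mem (g : N) {χ : A → K} {w : V} (hw : w ∈ eigSpace γ A χ) :
    γ g w ∈ eigSpace γ A (fun a => χ (MulAut.conjNormal g⁻¹ a)) := fun a => by
  rw [← Module.End.mul_apply, ← map_mul]
  show _ = _ • _
  rw [← map_smul, ← hw (MulAut.conjNormal g⁻¹ a), ← Module.End.mul_apply, ← map_mul, MulAut.conjNormal_apply]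
  congr 2
  group

theorem map_ne_zero_of_ne_zero [Finite N] (g : N) {w : V} (hw : w ≠ 0) : γ g w ≠ 0 := fun e => hw (by
  have : γ g⁻¹ (γ g w) = w := by rw [← Module.End.mul_apply, ← map_mul, inv_mul_cancel, map_one]; rfl
  rw [← this, e, map_zero])

theorem conj_mem_eigChars [Finite N] (g : N) {χ : A → K} (hχ : χ ∈ eigChars γ A) :
    (fun a => χ (MulAut.conjNormal g a)) ∈ eigChars γ A := by
  obtain ⟨w, hw, hw0⟩ := (Submodule.ne_bot_iff _).mp hχ
  refine (Submodule.ne_bot_iff _).mpr ⟨γ g⁻¹ w, ?_, map_ne_zero_of_ne_zero γ g⁻¹ hw0⟩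
  have := conj_apply_mem γ A g⁻¹ hw
  rwa [inv_inv] at this

/-- The kernel of the permutation action on the eigencharacters. -/
def charStab : Subgroup N where
  carrier := {g | ∀ χ ∈ eigChars γ A, ∀ a : A, χ (MulAut.conjNormal g a) = χ a}
  one_mem' := fun χ _ a => by rw [map_one]; rfl
  mul_mem' := fun {x y} hx hy χ hχ a => by rw [map_mul, MulAut.mul_apply, hx χ hχ, hy χ hχ]
  inv_mem' := fun {x} hx χ hχ a => by
    have h := hx χ hχ (MulAut.conjNormal x⁻¹ a)
    rw [← MulAut.mul_apply, ← map_mul, mul_inv_cancel, map_one] at h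
    exact h.symm

theorem charStab_normal [Finite N] : (charStab γ A).Normal := ⟨fun g hg h χ hχ a => by
  rw [map_mul, map_mul, MulAut.mul_apply, MulAut.mul_apply]
  have := hg _ (conj_mem_eigChars γ A h hχ) (MulAut.conjNormal h⁻¹ a)
  rw [this, ← MulAut.mul_apply, ← map_mul, mul_inv_cancel, map_one]
  rfl⟩

theorem stab_apply_mem {g : N} (hg : g ∈ charStab γ A) {χ : A → K} (hχ : χ ∈ eigChars γ A) {w : V}
    (hw : w ∈ eigSpace γ A χ) : γ g w ∈ eigSpace γ A χ := by
  have h := conj_apply_mem γ A g hw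
  have e : (fun a => χ (MulAut.conjNormal g⁻¹ a)) = χ := funext fun a =>
    (charStab γ A).inv_mem hg χ hχ a
  rwa [e] at h

variable [Finite N] (σ : MulAut N) (hAσ : ∀ x ∈ A, σ x ∈ A) {S : End K V} {P : ℕ} (hP : 0 < P)
  (hS : S ^ P = 1) (hSγ : ∀ g, S * γ g = γ (σ g) * S)

include hP hS in
theorem operator_injective : Function.Injective S := fun v w e => by
  have h : (S ^ (P - 1)) (S v) = (S ^ (P - 1)) (S w) := by rw [e]
  rwa [← Module.End.mul_apply, ← Module.End.mul_apply, ← pow_succ, Nat.sub_add_cancel hP, hS] at h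

include hSγ in
theorem pow_conj (i : ℕ) (g : N) : S ^ i * γ g = γ ((σ ^ i) g) * S ^ i := by
  induction i generalizing g with
  | zero => simp
  | succ i ih => rw [pow_succ, mul_assoc, hSγ, ← mul_assoc, ih, mul_assoc, pow_succ σ, MulAut.mul_apply]

include hSγ in
theorem pow_apply_mem_eigSpace (i : ℕ) {χ : A → K} {w : V} (hw : w ∈ eigSpace γ A χ) :
    (S ^ i) w ∈ eigSpace γ A (fun a => χ (((subAut σ A hAσ) ^ i).symm a)) := fun a => by
  obtain ⟨b, rfl⟩ := ((subAut σ A hAσ) ^ i).surjective a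
  show _ = χ (((subAut σ A hAσ) ^ i).symm (((subAut σ A hAσ) ^ i) b)) • _
  rw [MulEquiv.symm_apply_apply, subAut_pow_coe, ← Module.End.mul_apply, ← pow_conj γ σ hSγ,
    Module.End.mul_apply, hw b, map_smul]

include hP hS hSγ in
theorem aut_mem_eigChars {χ : A → K} (hχ : χ ∈ eigChars γ A) :
    (fun a => χ (subAut σ A hAσ a)) ∈ eigChars γ A := by
  obtain ⟨w, hw, hw0⟩ := (Submodule.ne_bot_iff _).mp hχ
  have hinv : S * S ^ (P - 1) = 1 := by rw [← pow_succ', Nat.sub_add_cancel hP, hS]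
  have e : S ((S ^ (P - 1)) w) = w := by rw [← Module.End.mul_apply, hinv]; rfl
  refine (Submodule.ne_bot_iff _).mpr ⟨(S ^ (P - 1)) w, fun a => operator_injective hP hS ?_, fun h => hw0 ?_⟩
  · rw [map_smul, ← Module.End.mul_apply S, hSγ, Module.End.mul_apply, e]
    exact hw (subAut σ A hAσ a)
  · rw [← e, h, map_zero]

include hAσ hP hS hSγ in
theorem charStab_invariant : ∀ g ∈ charStab γ A, σ g ∈ charStab γ A := by
  intro g hg χ hχ a
  obtain ⟨b, rfl⟩ := (subAut σ A hAσ).surjective a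
  have e : MulAut.conjNormal (σ g) (subAut σ A hAσ b) = subAut σ A hAσ (MulAut.conjNormal g b) := by
    refine Subtype.ext ?_
    rw [MulAut.conjNormal_apply]
    show σ g * σ b * (σ g)⁻¹ = σ _
    rw [MulAut.conjNormal_apply, map_mul, map_mul, map_inv]
  rw [e]
  exact hg _ (aut_mem_eigChars γ A σ hAσ hP hS hSγ hχ) b

/-- If an involutory power fixes every character, all its twists fix every character. -/
theorem twist_mem_charStab (τ : MulAut N) (hτ : τ ^ 2 = 1) (hAτ : ∀ x ∈ A, τ x ∈ A)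
    (hfix : ∀ χ ∈ eigChars γ A, ∀ a : A, χ ⟨τ a, hAτ a a.2⟩ = χ a) (g : N) :
    g⁻¹ * τ g ∈ charStab γ A := by
  intro χ hχ a
  have hττ : ∀ x, τ (τ x) = x := fun x => by rw [← MulAut.mul_apply, ← pow_two, hτ, MulAut.one_apply]
  have h := hfix _ (conj_mem_eigChars γ A g⁻¹ hχ) (MulAut.conjNormal g ⟨τ a, hAτ a a.2⟩)
  have e : ∀ x : A, MulAut.conjNormal g⁻¹ (MulAut.conjNormal g x) = x := fun x =>
    Subtype.ext (by rw [MulAut.conjNormal_apply, MulAut.conjNormal_apply]; group)
  rw [e, hfix χ hχ a] at h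
  refine Eq.trans (congrArg χ (Subtype.ext ?_)) h
  rw [MulAut.conjNormal_apply, MulAut.conjNormal_apply]
  show _ = g⁻¹ * τ (MulAut.conjNormal g ⟨τ a, hAτ a a.2⟩ : A) * g⁻¹⁻¹
  rw [MulAut.conjNormal_apply, map_mul, map_mul, map_inv, hττ]
  group

variable {γ A}

include hP hS hSγ in
/-- In the irreducible case the eigenspaces span. -/
theorem eq_top_of_irreducible [IsAlgClosed K] [FiniteDimensional K V] [Nontrivial V]
    (hab : ∀ a ∈ A, ∀ b ∈ A, a * b = b * a)
    (hAσ : ∀ x ∈ A, σ x ∈ A)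
    (hirr : ∀ W : Submodule K V, (∀ g, ∀ w ∈ W, γ g w ∈ W) → (∀ w ∈ W, S w ∈ W) → W = ⊥ ∨ W = ⊤) :
    ⨆ χ : eigChars γ A, eigSpace γ A (χ : A → K) = ⊤ := by
  obtain ⟨w, -, hw0, hc⟩ := exists_common_eigen (fun a : A => γ a)
    (fun a b => (show Commute (a : N) b from hab a a.2 b b.2).map γ) ⊤ top_ne_bot fun _ _ _ => trivial
  choose c hc using hc
  have hχ : c ∈ eigChars γ A := (Submodule.ne_bot_iff _).mpr ⟨w, hc, hw0⟩
  refine (hirr _ ?_ ?_).resolve_left fun h =>
    hw0 ((Submodule.mem_bot K).mp (h ▸ Submodule.mem_iSup_of_mem (⟨c, hχ⟩ : eigChars γ A) hc))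
  · intro g v hv
    induction hv using Submodule.iSup_induction' with
    | mem χ v hv =>
      rcases eq_or_ne v 0 with rfl | hv0
      · rw [map_zero]; exact zero_mem _
      exact Submodule.mem_iSup_of_mem (⟨_, (Submodule.ne_bot_iff _).mpr
        ⟨_, conj_apply_mem γ A g hv, map_ne_zero_of_ne_zero γ g hv0⟩⟩ : eigChars γ A) (conj_apply_mem γ A g hv)
    | zero => rw [map_zero]; exact zero_mem _
    | add x y _ _ hx hy => rw [map_add]; exact add_mem hx hy
  · intro v hv
    induction hv using Submodule.iSup_induction' with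
    | mem χ v hv =>
      rcases eq_or_ne v 0 with rfl | hv0
      · rw [map_zero]; exact zero_mem _
      have h1 := pow_apply_mem_eigSpace γ A σ hAσ hSγ 1 hv
      rw [pow_one] at h1
      exact Submodule.mem_iSup_of_mem (⟨_, (Submodule.ne_bot_iff _).mpr
        ⟨_, h1, fun e => hv0 (operator_injective hP hS (e.trans (map_zero S).symm))⟩⟩ : eigChars γ A) h1
    | zero => rw [map_zero]; exact zero_mem _
    | add x y _ _ hx hy => rw [map_add]; exact add_mem hx hy

variable (γ A)

include hSγ in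
/-- Translates with pairwise different characters are independent. -/
theorem orbit_indep {χ : A → K} {L : ℕ}
    (hsep : ∀ i, i < L → ∀ j, j < L → i ≠ j →
      (fun a => χ (((subAut σ A hAσ) ^ i).symm a)) ≠ fun a => χ (((subAut σ A hAσ) ^ j).symm a))
    (w : ℕ → V) (hw : ∀ i, w i ∈ eigSpace γ A χ) (hsum : ∑ i ∈ Finset.range L, (S ^ i) (w i) = 0) :
    ∀ i < L, (S ^ i) (w i) = 0 := by
  classical
  intro i hi
  refine CfsgLib.HallHigman.eq_zero_of_sum_eigen_eq_zero (fun a : A => γ a)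
    (fun i a => χ (((subAut σ A hAσ) ^ i).symm a)) (fun i => (S ^ i) (w i))
    (fun i a => pow_apply_mem_eigSpace γ A σ hAσ hSγ i (hw i) a) (Finset.range L) ?_ hsum i
    (Finset.mem_range.mpr hi)
  intro i hi j hj hij
  exact Function.ne_iff.mp (hsep i (Finset.mem_range.mp hi) j (Finset.mem_range.mp hj) hij)

/-- The translates `0, …, L-1` are different as soon as no smaller positive power fixes the character. -/
theorem orbit_sep {χ : A → K} {L : ℕ}
    (hL : ∀ i, 0 < i → i < L → ¬ ∀ a : A, χ (((subAut σ A hAσ) ^ i) a) = χ a) :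
    ∀ i, i < L → ∀ j, j < L → i ≠ j →
      (fun a => χ (((subAut σ A hAσ) ^ i).symm a)) ≠ fun a => χ (((subAut σ A hAσ) ^ j).symm a) := by
  set s := subAut σ A hAσ
  have key : ∀ i j, i < j → j < L → (fun a => χ ((s ^ i).symm a)) ≠ fun a => χ ((s ^ j).symm a) := by
    intro i j hij hj h
    refine hL (j - i) (by omega) (by omega) fun a => ?_
    have h1 := congrFun h ((s ^ j) a)
    simp only [MulEquiv.symm_apply_apply] at h1
    rw [← h1]
    congr 1
    rw [MulEquiv.eq_symm_apply, ← MulAut.mul_apply, ← pow_add]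
    congr 2
    omega
  intro i hi j hj hij
  rcases lt_or_gt_of_ne hij with h | h
  · exact key i j h hj
  · exact (key j i h hi).symm

theorem aut_fix_mul {χ : A → K} {i : ℕ} (h : ∀ a : A, χ (((subAut σ A hAσ) ^ i) a) = χ a) (l : ℕ) :
    ∀ a : A, χ (((subAut σ A hAσ) ^ (i * l)) a) = χ a := by
  induction l with
  | zero => intro a; simp
  | succ l ih => intro a; rw [Nat.mul_succ, pow_add, MulAut.mul_apply, ih, h]

include hSγ in
theorem pow_mem_of_fix {χ : A → K} {i : ℕ} (h : ∀ a : A, χ (((subAut σ A hAσ) ^ i) a) = χ a) {w : V}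
    (hw : w ∈ eigSpace γ A χ) : (S ^ i) w ∈ eigSpace γ A χ := by
  have h1 := pow_apply_mem_eigSpace γ A σ hAσ hSγ i hw
  have e : (fun a => χ (((subAut σ A hAσ) ^ i).symm a)) = χ := funext fun a => by
    have := h (((subAut σ A hAσ) ^ i).symm a)
    rw [MulEquiv.apply_symm_apply] at this
    exact this.symm
  rwa [e] at h1

end CfsgLib.GrossHeight
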