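import Cfsg.Agent.Lib.GrossHeight.Main
import Cfsg.Agent.Lib.HallHigman.FittingHeight
import Cfsg.Agent.S3794

/-!
Gross's bound `2n - 2` on the Fitting height under a fixed-point-free automorphism of order `2 ^ n`.
-/

set_option autoImplicit false

namespace CfsgLib.GrossHeight

open Cfsg CfsgLib.PCore CfsgLib.ModuleTrick CfsgLib.HallHigman
open scoped commutatorElement IsMulCommutative

universe u

theorem odd_card_of_fixedPointFree {G : Type*} [Group G] [Finite G] (σ : MulAut G) {n : ℕ}
    (hσ : σ ^ 2 ^ n = 1) (hfpf : ∀ g, σ g = g → g = 1) : Odd (Nat.card G) := by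
  have : Fact (Nat.Prime 2) := ⟨Nat.prime_two⟩
  have hp : IsPGroup 2 (Subgroup.zpowers σ) := by
    rintro ⟨a, i, rfl⟩
    refine ⟨n, Subtype.ext ?_⟩
    show (σ ^ i) ^ 2 ^ n = 1
    rw [← zpow_natCast, ← zpow_mul, mul_comm, zpow_mul, zpow_natCast, hσ, one_zpow]
  have h := hp.card_modEq_card_fixedPoints G
  have hfix : MulAction.fixedPoints (Subgroup.zpowers σ) G = {1} := by
    ext g
    simp only [MulAction.mem_fixedPoints, Set.mem_singleton_iff]
    refine ⟨fun hg => hfpf g (hg ⟨σ, Subgroup.mem_zpowers σ⟩), fun hg a => ?_⟩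
    subst hg
    exact map_one (a : MulAut G)
  rw [hfix, Nat.card_eq_fintype_card (α := ({1} : Set G)), Fintype.card_unique] at h
  exact Nat.odd_iff.mpr h

/-- A term of the lower central series of the twists lies in `O_{r',r}`. -/
theorem exists_lcs_mem_pCore {G : Type u} [Group G] [Finite G] [Group.IsSolvable G] (σ : MulAut G) {n : ℕ}
    (hσ : σ ^ 2 ^ (n + 1) = 1) (hfpf : ∀ g, σ g = g → g = 1) {r : ℕ} [hr : Fact r.Prime]
    (h0 : pPrimeCore r G = ⊥) :
    ∃ k, (twists (σ ^ 2 ^ n)).lowerCentralSeries k ≤ pCore r G := by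
  classical
  have hodd := odd_card_of_fixedPointFree σ hσ hfpf
  rcases eq_or_ne r 2 with rfl | hr2
  · refine ⟨0, fun x _ => ?_⟩
    have h1 : pPrimeCore 2 G = ⊤ := by
      refine top_le_iff.mp (le_pPrimeCore inferInstance ?_)
      rw [Subgroup.card_top]
      exact Nat.coprime_two_right.mpr hodd
    rw [h0] at h1
    have h2 : x = 1 := Subgroup.mem_bot.mp (h1 ▸ Subgroup.mem_top x)
    rw [h2]
    exact one_mem _
  obtain ⟨hcomm, hpow, hcen⟩ := frattini_quotient_props (p := r) (isPSolvable_of_isSolvable (G := G)) h0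
  haveI : (frattiniCore r G).Characteristic := frattiniCore_characteristic_aux
  haveI := CfsgLib.Fitting.pCore_normal (G := G) r
  set f := QuotientGroup.mk' (frattiniCore r G) with hfdef
  set W := (pCore r G).map f with hWdef
  haveI hWn : W.Normal := Subgroup.Normal.map inferInstance f (QuotientGroup.mk'_surjective _)
  haveI : IsMulCommutative W := isMulCommutative_iff.mpr fun a b => Subtype.ext (hcomm a a.2 b b.2)
  let σb := quotientAut σ (frattiniCore r G) (char_invariant σ _)
  have hfpfb := quotientAut_fixedPointFree σ (frattiniCore r G) (char_invariant σ _) hfpf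
  have hWσ : ∀ w ∈ W, σb w ∈ W := by
    rintro _ ⟨a, ha, rfl⟩
    exact ⟨σ a, char_invariant σ _ a ha, rfl⟩
  let σW := subAut σb W hWσ
  let s : AddMonoid.End (Additive W) := MonoidHom.toAdditive σW.toMonoidHom
  have hspow : ∀ (i : ℕ) (x : Additive W), (s ^ i) x = Additive.ofMul ((σW ^ i) (Additive.toMul x)) := by
    intro i
    induction i with
    | zero => intro x; rfl
    | succ i ih => intro x; rw [pow_succ, pow_succ, MulAut.mul_apply]; exact ih (s x)
  have hs : s ^ 2 ^ (n + 1) = 1 := AddMonoidHom.ext fun x => (hspow _ x).trans (by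
    rw [subAut_pow_eq_one σb W hWσ (quotientAut_pow_eq_one σ _ _ hσ)]; rfl)
  let c : G →* AddMonoid.End (Additive W) := (conjEnd W).comp f
  have hsc : ∀ g, s * c g = c (σ g) * s := fun g => AddMonoidHom.ext fun x =>
    Additive.toMul.injective (Subtype.ext (by
      show σb ((Additive.toMul (c g x) : W) : G ⧸ frattiniCore r G) =
        ((Additive.toMul (c (σ g) (s x)) : W) : G ⧸ frattiniCore r G)
      simp only [c, MonoidHom.comp_apply, conjEnd_apply, map_mul, map_inv]
      rfl))
  have hA : ∀ a : Additive W, r • a = 0 := fun a => by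
    apply Additive.toMul.injective
    apply Subtype.ext
    rw [toMul_nsmul, Subgroup.coe_pow]
    exact hpow _ (Additive.toMul a).2
  obtain ⟨U, _, _, _, Ψ, hΨ, -⟩ := exists_linear_model_rank (p := r) hA
  -- no fixed vector
  have hsum : ∑ i ∈ Finset.range (2 ^ (n + 1)), s ^ i = 0 := by
    refine AddMonoidHom.ext fun v => ?_
    set t := (∑ i ∈ Finset.range (2 ^ (n + 1)), s ^ i) v with ht
    have h1 := mul_geom_sum s (2 ^ (n + 1))
    rw [hs, sub_self, sub_mul, one_mul, sub_eq_zero] at h1
    have h2 : s t = t := DFunLike.congr_fun h1 v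
    have h3 : ((Additive.toMul t : W) : G ⧸ frattiniCore r G) = 1 :=
      hfpfb _ (congrArg (fun x => ((Additive.toMul x : W) : G ⧸ frattiniCore r G)) h2)
    exact Additive.toMul.injective (Subtype.ext h3)
  have hker : c.ker ≤ pCore r G := by
    intro a ha
    have h1 : f a ∈ Subgroup.centralizer (W : Set (G ⧸ frattiniCore r G)) := (conjEnd_ker W).le ha
    rw [hWdef, hcen] at h1
    have h3 : a ∈ ((pCore r G).map f).comap f := h1
    rwa [Subgroup.comap_map_eq, hfdef, QuotientGroup.ker_mk', sup_eq_left.mpr (frattiniCore_le r G)] at h3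
  obtain ⟨k, hk⟩ := rpow_lcs_twists (K := AlgebraicClosure (ZMod r)) hr2
    (Module.finrank (AlgebraicClosure (ZMod r)) U) (Ψ.toMonoidHom.comp c) σ (Ψ s) n le_rfl hodd inferInstance hσ
    (by rw [← map_pow, hs, map_one])
    (fun g => by
      show Ψ s * Ψ (c g) = Ψ (c (σ g)) * Ψ s
      rw [← map_mul, ← map_mul, hsc])
    (fun v hv => eq_zero_of_sum_pow_eq_zero (Ψ s) (two_pow_ne_zero hr2 (n + 1)) (by
      simp only [← map_pow Ψ, ← map_sum, hsum, map_zero]) hv)
  refine ⟨k, ?_⟩
  -- the image is an `r`-group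
  set L := (twists (σ ^ 2 ^ n)).lowerCentralSeries k with hL
  haveI hLn : L.Normal := lcs_normal (twists_normal _) k
  set π := QuotientGroup.mk' c.ker with hπdef
  have hLr : IsPGroup r (L.map π) := by
    rintro ⟨_, a, ha, rfl⟩
    refine ⟨orderOf a, Subtype.ext ?_⟩
    show (π a) ^ r ^ orderOf a = 1
    rw [← map_pow]
    exact (QuotientGroup.eq_one_iff _).mpr (hΨ ((hk a ha).trans (map_one Ψ).symm))
  have hkr : IsPGroup r π.ker := by
    rw [hπdef, QuotientGroup.ker_mk']
    exact pCore_isPGroup.to_le hker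
  have h1 := hLr.comap_of_ker_isPGroup π hkr
  exact (Subgroup.le_comap_map _ _).trans (le_pCore
    (Subgroup.Normal.comap (Subgroup.Normal.map hLn _ (QuotientGroup.mk'_surjective _)) _) h1)

/-- A term of the lower central series of the twists lies in the Fitting subgroup. -/
theorem exists_lcs_le_fitting {G : Type u} [Group G] [Finite G] [Group.IsSolvable G] (σ : MulAut G) {n : ℕ}
    (hσ : σ ^ 2 ^ (n + 1) = 1) (hfpf : ∀ g, σ g = g → g = 1) :
    ∃ k, (twists (σ ^ 2 ^ n)).lowerCentralSeries k ≤ fittingSubgroup G := by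
  classical
  have hcore : ∀ r : (Nat.card G).primeFactors, ∃ k, ∀ z : G, z ∈ (twists (σ ^ 2 ^ n)).lowerCentralSeries k →
      (z : G ⧸ pPrimeCore (r : ℕ) G) ∈ pCore (r : ℕ) (G ⧸ pPrimeCore (r : ℕ) G) := by
    intro r
    haveI := Fact.mk (Nat.prime_of_mem_primeFactors r.2)
    haveI : (pPrimeCore (r : ℕ) G).Characteristic := inferInstance
    obtain ⟨k, hk⟩ := exists_lcs_mem_pCore (quotientAut σ (pPrimeCore (r : ℕ) G) (char_invariant σ _))
      (quotientAut_pow_eq_one σ _ _ hσ) (quotientAut_fixedPointFree σ _ _ hfpf) pPrimeCore_quotient_eq_bot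
      (r := (r : ℕ))
    refine ⟨k, fun z hz => hk ?_⟩
    refine lcs_mono (map_twists_le (QuotientGroup.mk' (pPrimeCore (r : ℕ) G)) (σ ^ 2 ^ n)
      ((quotientAut σ (pPrimeCore (r : ℕ) G) (char_invariant σ _)) ^ 2 ^ n)
      (fun g => (quotientAut_pow_mk σ _ _ _ g).symm)) k ?_
    rw [← Subgroup.map_lowerCentralSeries]
    exact ⟨z, hz, rfl⟩
  choose kf hkf using hcore
  refine ⟨Finset.univ.sup kf, fun z hz => mem_fitting_of_forall_mem_pCore z fun r hr hdvd => ?_⟩
  exact hkf ⟨r, Nat.mem_primeFactors.mpr ⟨hr, hdvd, Nat.card_pos.ne'⟩⟩ z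
    (Subgroup.lowerCentralSeries_antitone _ (Finset.le_sup (Finset.mem_univ _)) hz)

/-- The Fitting height is at most `2n + 2` when `σ ^ 2 ^ (n + 2) = 1`. -/
theorem exists_fitting_chain_two (n : ℕ) : ∀ (G : Type u) [Group G] [Finite G] [Group.IsSolvable G]
    (σ : MulAut G), σ ^ 2 ^ (n + 2) = 1 → (∀ g, σ g = g → g = 1) →
    ∃ F : Fin (2 * n + 2 + 1) → Subgroup G, F 0 = ⊥ ∧ F (Fin.last (2 * n + 2)) = ⊤ ∧ Monotone F ∧
      (∀ i, (F i).Normal) ∧ ∀ i : Fin (2 * n + 2), ∃ k : ℕ, (F i.succ).lowerCentralSeries k ≤ F i.castSucc := by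
  induction n with
  | zero =>
    intro G _ _ _ σ hσ hfpf
    have hnil : Group.IsNilpotent (commutator G) :=
      Cfsg.Agent.S3794.result inferInstance σ (by simpa using hσ) hfpf
    refine ⟨![⊥, commutator G, ⊤], rfl, rfl, ?_, ?_, ?_⟩
    · refine Fin.monotone_iff_le_succ.mpr fun i => ?_
      fin_cases i
      · exact bot_le
      · exact le_top
    · intro i
      fin_cases i
      · exact Subgroup.normal_bot
      · exact inferInstanceAs (commutator G).Normal
      · exact Subgroup.normal_top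
    · intro i
      fin_cases i
      · obtain ⟨k, hk⟩ := (Subgroup.isNilpotent_iff_lowerCentralSeries (S := commutator G)).mp hnil
        exact ⟨k, hk.le⟩
      · exact ⟨1, le_rfl⟩
  | succ n ih =>
    intro G _ _ _ σ hσ hfpf
    set τ := σ ^ 2 ^ (n + 2) with hτdef
    set N := fittingSubgroup G with hN
    haveI : N.Characteristic := CfsgLib.Fitting.fitting_characteristic
    haveI := twists_normal τ
    set L := N ⊔ twists τ with hLdef
    haveI : L.Normal := Subgroup.sup_normal N (twists τ)
    obtain ⟨kT, hkT⟩ := exists_lcs_le_fitting (n := n + 2) σ hσ hfpf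
    have hLσ : ∀ x ∈ L, σ x ∈ L := by
      have hle : L ≤ L.comap σ.toMonoidHom := by
        refine sup_le (fun x hx => (le_sup_left : N ≤ L) (char_invariant σ N x hx)) ?_
        rw [twists, Subgroup.closure_le]
        rintro _ ⟨g, rfl⟩
        show σ (g⁻¹ * τ g) ∈ L
        rw [map_mul, map_inv, show σ (τ g) = τ (σ g) by
          rw [hτdef, ← MulAut.mul_apply, ← MulAut.mul_apply, ← pow_succ', ← pow_succ]]
        exact (le_sup_right : twists τ ≤ L) (twist_mem τ _)
      exact fun x hx => hle hx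
    let σb := quotientAut σ L hLσ
    have hσb : σb ^ 2 ^ (n + 2) = 1 := MulEquiv.ext fun b => by
      obtain ⟨a, rfl⟩ := QuotientGroup.mk_surjective b
      rw [quotientAut_pow_mk]
      exact (QuotientGroup.eq.mpr ((le_sup_right : twists τ ≤ L) (twist_mem τ a))).symm
    obtain ⟨F, hF0, hFl, hFm, hFn, hFk⟩ := ih (G ⧸ L) σb hσb (quotientAut_fixedPointFree σ L hLσ hfpf)
    set π := QuotientGroup.mk' L
    have hπs : Function.Surjective π := QuotientGroup.mk'_surjective L
    refine ⟨Fin.cases ⊥ (Fin.cases N fun i => (F i).comap π), rfl, ?_, ?_, ?_, ?_⟩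
    · show (Fin.cases ⊥ (Fin.cases N fun i => (F i).comap π) : _ → Subgroup G)
        (Fin.last (2 * n + 2)).succ.succ = ⊤
      simp only [Fin.cases_succ]
      rw [hFl, Subgroup.comap_top]
    · refine Fin.monotone_iff_le_succ.mpr fun i => ?_
      refine Fin.cases ?_ (fun j => ?_) i
      · exact bot_le
      rw [← Fin.succ_castSucc, Fin.cases_succ, Fin.cases_succ]
      refine Fin.cases ?_ (fun l => ?_) j
      · simp only [Fin.castSucc_zero, Fin.cases_zero, Fin.cases_succ]
        rw [hF0, MonoidHom.comap_bot, QuotientGroup.ker_mk']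
        exact le_sup_left
      · rw [← Fin.succ_castSucc, Fin.cases_succ, Fin.cases_succ]
        exact Subgroup.comap_mono (hFm l.castSucc_le_succ)
    · refine Fin.cases ?_ fun j => ?_
      · simp only [Fin.cases_zero]; infer_instance
      simp only [Fin.cases_succ]
      refine Fin.cases ?_ (fun l => ?_) j
      · simp only [Fin.cases_zero]; infer_instance
      · simp only [Fin.cases_succ]; exact (hFn l).comap π
    · refine Fin.cases ?_ fun j => ?_
      · obtain ⟨k, hk⟩ := (Subgroup.isNilpotent_iff_lowerCentralSeries (S := N)).mp CfsgLib.Fitting.fitting_isNilpotent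
        refine ⟨k, ?_⟩
        simp only [Fin.cases_succ, Fin.castSucc_zero, Fin.cases_zero]
        exact hk.le
      rw [← Fin.succ_castSucc]
      simp only [Fin.cases_succ]
      refine Fin.cases ?_ (fun l => ?_) j
      · refine ⟨kT, ?_⟩
        simp only [Fin.cases_succ, Fin.castSucc_zero, Fin.cases_zero]
        rw [hF0, MonoidHom.comap_bot, QuotientGroup.ker_mk', ← QuotientGroup.ker_mk' N,
          ← Subgroup.map_eq_bot_iff, Subgroup.map_lowerCentralSeries, hLdef, Subgroup.map_sup,
          (Subgroup.map_eq_bot_iff N).mpr (QuotientGroup.ker_mk' N).ge, bot_sup_eq,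
          ← Subgroup.map_lowerCentralSeries, Subgroup.map_eq_bot_iff, QuotientGroup.ker_mk']
        exact hkT
      · obtain ⟨k, hk⟩ := hFk l
        refine ⟨k, ?_⟩
        rw [← Fin.succ_castSucc]
        simp only [Fin.cases_succ]
        rw [← Subgroup.map_le_iff_le_comap, Subgroup.map_lowerCentralSeries,
          Subgroup.map_comap_eq_self_of_surjective hπs]
        exact hk

end CfsgLib.GrossHeight
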