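import Cfsg.Agent.Lib.GrossHeight.Structure
import Cfsg.Agent.Lib.HallHigman.Commutator

/-!
The commutator pairing on a core of symplectic type, and linear models with a bound on ranks.
-/

set_option autoImplicit false

namespace CfsgLib.GrossHeight

open Module (End)
open Cfsg
open scoped commutatorElement TensorProduct

universe u

/-- A linearisation over an algebraically closed field which does not increase ranks. -/
theorem exists_linear_model_rank {p : ℕ} [hp : Fact p.Prime] {A : Type u} [AddCommGroup A] [Finite A]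
    (hA : ∀ a : A, p • a = 0) :
    ∃ (U : Type u) (_ : AddCommGroup U) (_ : Module (AlgebraicClosure (ZMod p)) U)
      (_ : FiniteDimensional (AlgebraicClosure (ZMod p)) U)
      (Φ : AddMonoid.End A →+* End (AlgebraicClosure (ZMod p)) U), Function.Injective Φ ∧
      ∀ (f : AddMonoid.End A) (k : ℕ), Nat.card (AddMonoidHom.range (f : A →+ A)) ≤ p ^ k →
        Module.finrank (AlgebraicClosure (ZMod p)) (LinearMap.range (Φ f)) ≤ k := by
  have : Module (ZMod p) A := AddCommGroup.zmodModule hA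
  let K := AlgebraicClosure (ZMod p)
  have : Module.Finite (ZMod p) A := Module.Finite.of_finite
  let Φ : AddMonoid.End A →+* Module.End K (K ⊗[ZMod p] A) :=
    { toFun := fun f => (AddMonoidHom.toZModLinearMap p f).baseChange K
      map_one' := by
        refine TensorProduct.AlgebraTensorModule.curry_injective ?_
        ext a
        rfl
      map_mul' := fun f g => by
        refine TensorProduct.AlgebraTensorModule.curry_injective ?_
        ext a
        rfl
      map_zero' := by
        refine TensorProduct.AlgebraTensorModule.curry_injective ?_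
        ext a
        exact TensorProduct.tmul_zero A (1 : K)
      map_add' := fun f g => by
        refine TensorProduct.AlgebraTensorModule.curry_injective ?_
        ext a
        exact TensorProduct.tmul_add (1 : K) (f a) (g a) }
  refine ⟨K ⊗[ZMod p] A, inferInstance, inferInstance, inferInstance, Φ, ?_, ?_⟩
  · rw [injective_iff_map_eq_zero]
    intro f hf
    refine AddMonoidHom.ext fun a => ?_
    show f a = 0
    by_contra hne'
    obtain ⟨ψ, hψ⟩ := CfsgLib.HallHigman.exists_dual_eq_one (K := ZMod p) hne'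
    have h0 : Φ f ((1 : K) ⊗ₜ[ZMod p] a) = 0 := by rw [hf]; rfl
    have h1 : ((1 : K) ⊗ₜ[ZMod p] f a) = 0 := h0
    have h2 := congrArg (fun t => TensorProduct.AlgebraTensorModule.rid (ZMod p) K K (LinearMap.baseChange K ψ t)) h1
    simp only [LinearMap.baseChange_tmul, TensorProduct.AlgebraTensorModule.rid_tmul, map_zero] at h2
    rw [hψ, one_smul] at h2
    exact one_ne_zero h2
  · intro f k hk
    set l := AddMonoidHom.toZModLinearMap p (f : A →+ A) with hl
    have e : Φ f = ((LinearMap.range l).subtype.baseChange K).comp (l.rangeRestrict.baseChange K) := by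
      rw [← LinearMap.baseChange_comp]
      rfl
    rw [e]
    refine le_trans (Submodule.finrank_mono (LinearMap.range_comp_le_range _ _))
      (le_trans (LinearMap.finrank_range_le _) ?_)
    rw [Module.finrank_baseChange]
    have h1 : Nat.card (LinearMap.range l) = p ^ Module.finrank (ZMod p) (LinearMap.range l) := by
      rw [Module.natCard_eq_pow_finrank (K := ZMod p), Nat.card_zmod]
    have h2 : Nat.card (LinearMap.range l) = Nat.card (AddMonoidHom.range (f : A →+ A)) := rfl
    rw [← h2, h1] at hk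
    exact (Nat.pow_le_pow_iff_right hp.out.one_lt).mp hk

variable {K V : Type*} [Field K] [AddCommGroup V] [Module K V] [Nontrivial V] {N : Type*} [Group N]
  [Finite N] {γ : N →* End K V} {σ : MulAut N}

/-- A normal subgroup inducing a `q`-group on the core modulo scalars centralises it modulo scalars. -/
theorem comm_mem_of_pGroup_action (hγ : Function.Injective γ) (hab : ScalarAbelian γ σ)
    (hfix : ∀ z ∈ scalars γ, σ z = z) {q : ℕ} [hq : Fact q.Prime] (T : Subgroup N) [T.Normal]
    (hTσ : ∀ x ∈ T, σ x ∈ T)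
    (hT : ∀ t ∈ T, ∃ a : ℕ, ∀ x ∈ pCore q N, ⁅t ^ q ^ a, x⁆ ∈ scalars γ) :
    ∀ t ∈ T, ∀ x ∈ pCore q N, ⁅t, x⁆ ∈ scalars γ := by
  classical
  haveI hZn := scalars_normal hγ
  haveI := CfsgLib.Fitting.pCore_normal (G := N) q
  set Q := pCore q N with hQ
  let π := QuotientGroup.mk' (scalars γ)
  have hπ : ∀ x, π x = 1 ↔ x ∈ scalars γ := fun x => QuotientGroup.eq_one_iff x
  have hzc : ∀ z ∈ scalars γ, ∀ g, g * z = z * g := fun z hz g => scalars_central hγ hz g
  have hcomm_iff : ∀ t a : N, ⁅t, a⁆ ∈ scalars γ ↔ π t * π a = π a * π t := fun t a => by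
    rw [← hπ, map_commutatorElement, commutatorElement_eq_one_iff_mul_comm]
  let B : Subgroup N :=
    { carrier := {a | a ∈ Q ∧ ∀ t ∈ T, ⁅t, a⁆ ∈ scalars γ}
      one_mem' := ⟨Q.one_mem, fun t _ => by rw [commutatorElement_one_right]; exact one_mem _⟩
      mul_mem' := fun {a b} ha hb => ⟨Q.mul_mem ha.1 hb.1, fun t ht => by
        rw [hcomm_iff, map_mul, ← mul_assoc, (hcomm_iff t a).mp (ha.2 t ht), mul_assoc,
          (hcomm_iff t b).mp (hb.2 t ht), mul_assoc]⟩
      inv_mem' := fun {a} ha => ⟨Q.inv_mem ha.1, fun t ht => by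
        rw [hcomm_iff, map_inv]
        exact (show Commute (π t) (π a) from (hcomm_iff t a).mp (ha.2 t ht)).inv_right⟩ }
  have hBn : B.Normal := ⟨fun a ha g => ⟨Subgroup.Normal.conj_mem inferInstance a ha.1 g, fun t ht => by
    have h1 := ha.2 (g⁻¹ * t * g) (by simpa using Subgroup.Normal.conj_mem inferInstance t ht g⁻¹)
    have h2 := Subgroup.Normal.conj_mem hZn _ h1 g
    convert h2 using 1
    simp only [commutatorElement_def]; group⟩⟩
  have hBσ : ∀ x ∈ B, σ x ∈ B := fun a ha => ⟨char_invariant σ Q a ha.1, fun t ht => by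
    obtain ⟨t, ht', rfl⟩ : t ∈ T.map σ.toMonoidHom := (ModuleTrick.map_eq_of_invariant hTσ).ge ht
    show ⁅σ t, σ a⁆ ∈ _
    rw [← map_commutatorElement, hfix _ (ha.2 t ht')]
    exact ha.2 t ht'⟩
  let C : Subgroup N := Q ⊓ Subgroup.centralizer (B : Set N)
  haveI : (Subgroup.centralizer (B : Set N)).Normal := ⟨fun x hx g b hb => by
    have h1 := hx (g⁻¹ * b * g) (by simpa using hBn.conj_mem b hb g⁻¹)
    calc b * (g * x * g⁻¹) = g * (g⁻¹ * b * g * x) * g⁻¹ := by group
      _ = g * x * g⁻¹ * b := by rw [h1]; group⟩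
  haveI hCn : C.Normal := inferInstanceAs (Q ⊓ Subgroup.centralizer (B : Set N)).Normal
  have hCσ : ∀ x ∈ C, σ x ∈ C := fun x hx => ⟨char_invariant σ Q x hx.1, fun b hb => by
    obtain ⟨b', hb', rfl⟩ : b ∈ B.map σ.toMonoidHom := (ModuleTrick.map_eq_of_invariant hBσ).ge hb
    show σ b' * σ x = σ x * σ b'
    rw [← map_mul, ← map_mul, hx.2 b' hb']⟩
  have hBC : B ⊓ C ≤ scalars γ := hab (B ⊓ C) inferInstance (fun x hx => ⟨hBσ x hx.1, hCσ x hx.2⟩)
    fun a ha b hb => hb.2.2 a ha.1
  -- the centraliser of `B` is scalar, by counting fixed points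
  have hC : C ≤ scalars γ := by
    by_contra hne
    set Cb := C.map π with hCb
    haveI : Cb.Normal := Subgroup.Normal.map hCn π (QuotientGroup.mk'_surjective _)
    let φ : T →* MulAut Cb := MulAut.conjNormal.comp (π.comp T.subtype)
    have hφ : ∀ (t : T) (c : Cb), ((φ t c : Cb) : N ⧸ scalars γ) = π t * c * (π t)⁻¹ := fun t c =>
      MulAut.conjNormal_apply _ _
    have hp : IsPGroup q φ.range := by
      rintro ⟨_, t, rfl⟩
      obtain ⟨a, ha⟩ := hT t t.2
      refine ⟨a, Subtype.ext (MulEquiv.ext fun c => Subtype.ext ?_)⟩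
      show ((φ t ^ q ^ a) c : N ⧸ scalars γ) = c
      rw [← map_pow, hφ]
      obtain ⟨x, hx, hxc⟩ := c.2
      rw [← hxc, mul_inv_eq_iff_eq_mul, Subgroup.coe_pow, ← hcomm_iff]
      exact ha x hx.1
    have hCbp : IsPGroup q Cb :=
      ((CfsgLib.PCore.pCore_isPGroup (p := q) (G := N)).to_le (inf_le_left : C ≤ Q)).map π
    haveI : Nontrivial Cb := (Subgroup.nontrivial_iff_ne_bot _).mpr fun h => hne fun x hx =>
      (hπ x).mp (Subgroup.mem_bot.mp (h ▸ Subgroup.mem_map_of_mem π hx : π x ∈ (⊥ : Subgroup _)))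
    obtain ⟨j, hj0, hj⟩ := hCbp.nontrivial_iff_card.mp inferInstance
    obtain ⟨b, hb, hb1⟩ := hp.exists_fixed_point_of_prime_dvd_card_of_fixed_point Cb
      (hj ▸ dvd_pow_self q (by omega)) (a := 1) (fun g => map_one (g : MulAut Cb))
    obtain ⟨x, hx, hxb⟩ := b.2
    have hxB : x ∈ B := ⟨hx.1, fun t ht => by
      have h1 := congrArg Subtype.val (hb ⟨φ ⟨t, ht⟩, ⟨t, ht⟩, rfl⟩)
      rw [hcomm_iff, hxb]
      exact mul_inv_eq_iff_eq_mul.mp ((hφ ⟨t, ht⟩ b).symm.trans h1)⟩
    exact hb1 (Subtype.ext (hxb ▸ ((hπ x).mpr (hBC ⟨hxB, hx⟩)).symm))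
  -- non-degeneracy of the commutator pairing
  have hl : ∀ z ∈ scalars γ, ∃ c : K, γ z = c • 1 := fun z hz => hz
  choose! l hl using hl
  obtain ⟨v, hv⟩ := exists_ne (0 : V)
  have huniq : ∀ z (c : K), γ z = c • 1 → z ∈ scalars γ → l z = c := fun z c h hz => by
    refine smul_left_injective K hv ?_
    have := LinearMap.congr_fun ((hl z hz).symm.trans h) v
    exact this
  have hlmul : ∀ y ∈ scalars γ, ∀ z ∈ scalars γ, l (y * z) = l y * l z := fun y hy z hz =>
    huniq _ _ (by rw [map_mul, hl y hy, hl z hz, smul_mul_smul_comm, mul_one]) (mul_mem hy hz)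
  have hl1 : l 1 = 1 := huniq 1 1 (by rw [map_one, one_smul]) (one_mem _)
  let Zb := (scalars γ).subgroupOf B
  let Zq := (scalars γ).subgroupOf Q
  have hcm : ∀ a : Q, ∀ b : B, ⁅(b : N), (a : N)⁆ ∈ scalars γ := fun a b =>
    commutator_mem hγ hab b.2.1 a.2
  let f : Q → (B →* K) := fun a =>
    { toFun := fun b => l ⁅(b : N), (a : N)⁆
      map_one' := by rw [Subgroup.coe_one, commutatorElement_one_left, hl1]
      map_mul' := fun b b' => by
        rw [Subgroup.coe_mul, comm_mul hγ hab b.2.1 b'.2.1 a.2, hlmul _ (hcm a b) _ (hcm a b')] }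
  let Θ : Q ⧸ Zq → (B ⧸ Zb →* K) := fun x => QuotientGroup.lift Zb (f x.out) fun z hz => by
    show l ⁅(z : N), (x.out : N)⁆ = 1
    rw [commutatorElement_eq_one_iff_mul_comm.mpr (hzc (z : N) (Subgroup.mem_subgroupOf.mp hz) _).symm, hl1]
  have hΘ : Function.Injective Θ := by
    intro x y hxy
    rw [← QuotientGroup.out_eq' x, ← QuotientGroup.out_eq' y, QuotientGroup.eq, Subgroup.mem_subgroupOf]
    refine hC ⟨(x.out⁻¹ * y.out : Q).2, fun b hb => commutatorElement_eq_one_iff_mul_comm.mp ?_⟩
    set a : N := ((x.out : Q) : N) with ha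
    set a' : N := ((y.out : Q) : N) with ha'
    have h1 : l ⁅b, a⁆ = l ⁅b, a'⁆ := DFunLike.congr_fun hxy (QuotientGroup.mk (⟨b, hb⟩ : B))
    have hba := hcm x.out ⟨b, hb⟩
    have hba' := hcm y.out ⟨b, hb⟩
    have h2 : ⁅b, a⁆ = ⁅b, a'⁆ := hγ (by rw [hl _ hba, hl _ hba', h1])
    show ⁅b, ((x.out⁻¹ * y.out : Q) : N)⁆ = 1
    rw [Subgroup.coe_mul, Subgroup.coe_inv, ← ha, ← ha', ← inv_eq_one, commutatorElement_inv,
      comm_mul hγ hab (Q.inv_mem x.out.2) y.out.2 hb.1, ← commutatorElement_inv b a',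
      ← h2, commutatorElement_inv b a, ← comm_mul hγ hab (Q.inv_mem x.out.2) x.out.2 hb.1, inv_mul_cancel,
      commutatorElement_one_left]
  have hle : Zq.index ≤ Zb.index := by
    rw [Subgroup.index_eq_card, Subgroup.index_eq_card]
    haveI : Fintype (B ⧸ Zb) := Fintype.ofFinite _
    have hli := linearIndependent_monoidHom (B ⧸ Zb) K
    haveI := hli.finite
    haveI : Fintype (B ⧸ Zb →* K) := Fintype.ofFinite _
    refine le_trans (Nat.card_le_card_of_injective Θ hΘ) ?_
    have h := hli.fintype_card_le_finrank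
    rw [Module.finrank_fintype_fun_eq_card] at h
    rwa [Nat.card_eq_fintype_card, Nat.card_eq_fintype_card]
  have hBQ : B ≤ Q := fun a ha => ha.1
  have hZB : scalars γ ⊓ Q ≤ B := fun z hz => ⟨hz.2, fun t _ => by
    rw [commutatorElement_eq_one_iff_mul_comm.mpr (hzc z hz.1 t)]
    exact one_mem _⟩
  have h1 : (scalars γ).relIndex B * B.relIndex Q = (scalars γ).relIndex Q := by
    rw [← Subgroup.inf_relIndex_right (scalars γ) Q, ← Subgroup.inf_relIndex_right (scalars γ) B,
      show scalars γ ⊓ B = scalars γ ⊓ Q from le_antisymm (inf_le_inf_left _ hBQ) (le_inf inf_le_left hZB)]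
    exact Subgroup.relIndex_mul_relIndex _ _ _ hZB hBQ
  have h2 : B.relIndex Q = 1 := by
    have hpos : 0 < (scalars γ).relIndex B := Nat.pos_of_ne_zero Subgroup.index_ne_zero_of_finite
    have hne : B.relIndex Q ≠ 0 := Subgroup.index_ne_zero_of_finite
    by_contra hne1
    have h3 : (scalars γ).relIndex B * 2 ≤ (scalars γ).relIndex B * B.relIndex Q :=
      Nat.mul_le_mul_left _ (by omega)
    have hle' : (scalars γ).relIndex Q ≤ (scalars γ).relIndex B := hle
    omega
  intro t ht x hx
  exact ((Subgroup.relIndex_eq_one.mp h2) hx).2 t ht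

end CfsgLib.GrossHeight
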