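import Cfsg.Agent.Lib.GrossHeight.Small
import Cfsg.Agent.Lib.GrossHeight.Pairing

/-!
The module theorem behind Gross's bound: for an operator of 2-power order without fixed vectors, a term of
the lower central series of the twists of the involutory power acts unipotently.
-/

set_option autoImplicit false

namespace CfsgLib.GrossHeight

open Module (End)
open Cfsg
open scoped commutatorElement IsMulCommutative

universe u v w

theorem eq_of_sq_eq_prime_pow {n q i : ℕ} (hq : q.Prime) (hne : (2 ^ (n + 1) - 1) ^ 2 ≠ 1)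
    (h : q ^ i = (2 ^ (n + 1) - 1) ^ 2) : q + 1 = 2 ^ (n + 1) := by
  obtain ⟨k, -, hk⟩ := (Nat.dvd_prime_pow hq).mp (h ▸ dvd_pow_self (2 ^ (n + 1) - 1) two_ne_zero :
    2 ^ (n + 1) - 1 ∣ q ^ i)
  have hpos : 1 ≤ 2 ^ (n + 1) := Nat.one_le_two_pow
  have hk0 : k ≠ 0 := fun e => hne (by rw [hk, e, pow_zero, one_pow])
  have hqodd : Odd q := by
    have h1 : Odd (2 ^ (n + 1) - 1) := Nat.Even.sub_odd hpos (Nat.even_pow.mpr ⟨even_two, by omega⟩) odd_one
    rw [hk] at h1
    exact (Nat.odd_pow_iff hk0).mp h1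
  have hk' : q ^ k + 1 = 2 ^ (n + 1) := by omega
  have hq3 : 3 ≤ q := by
    have := hq.two_le
    rcases hqodd with ⟨m, rfl⟩
    omega
  rcases Nat.even_or_odd k with hke | hko
  · exfalso
    obtain ⟨m, rfl⟩ := hke
    obtain ⟨c, hc⟩ := hqodd.pow (n := m)
    rw [pow_add, hc] at hk'
    rcases Nat.eq_zero_or_pos n with rfl | hn
    · exact hne (by norm_num)
    · obtain ⟨n', rfl⟩ : ∃ n', n = n' + 1 := ⟨n - 1, by omega⟩
      rw [pow_succ, pow_succ] at hk'
      have e : (2 * c + 1) * (2 * c + 1) = 4 * (c * c + c) + 1 := by ring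
      rw [e] at hk'
      omega
  · obtain ⟨m, rfl⟩ := hko
    have hdvd : (q : ℤ) + 1 ∣ (q : ℤ) ^ (2 * m + 1) + 1 := by
      have := Odd.add_dvd_pow_add_pow (q : ℤ) 1 (show Odd (2 * m + 1) from ⟨m, rfl⟩)
      rwa [one_pow] at this
    have hN : q + 1 ∣ 2 ^ (n + 1) := by
      rw [← hk']
      exact_mod_cast hdvd
    rcases Nat.eq_zero_or_pos m with rfl | hm
    · simpa using hk'
    exfalso
    obtain ⟨e, he, he'⟩ := (Nat.dvd_prime_pow Nat.prime_two).mp hN
    -- the cofactor is odd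
    have hsum : (∑ i ∈ Finset.range (2 * m + 1), (-(q : ℤ)) ^ i) * (-(q : ℤ) - 1) = (-(q : ℤ)) ^ (2 * m + 1) - 1 :=
      geom_sum_mul _ _
    rw [Odd.neg_pow ⟨m, rfl⟩] at hsum
    set s := ∑ i ∈ Finset.range (2 * m + 1), (-(q : ℤ)) ^ i with hs
    have h2 : s * ((q : ℤ) + 1) = (2 : ℤ) ^ (n + 1) := by
      have : ((q ^ (2 * m + 1) + 1 : ℕ) : ℤ) = ((2 ^ (n + 1) : ℕ) : ℤ) := by rw [hk']
      push_cast at this
      rw [← this]
      linarith
    have hsodd : Odd s := by
      have hqz : Odd (-(q : ℤ)) := ((Int.odd_coe_nat q).mpr hqodd).neg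
      have key : ∀ l, (Odd l → Odd (∑ i ∈ Finset.range l, (-(q : ℤ)) ^ i)) ∧
          (Even l → Even (∑ i ∈ Finset.range l, (-(q : ℤ)) ^ i)) := by
        intro l
        induction l with
        | zero => exact ⟨fun h => absurd h (by decide), fun _ => by simp⟩
        | succ l ih =>
          rw [Finset.sum_range_succ]
          refine ⟨fun h => (ih.2 ?_).add_odd hqz.pow, fun h => (ih.1 ?_).add_odd hqz.pow⟩
          · exact (Nat.even_or_odd l).resolve_right fun h' => (Nat.not_even_iff_odd.mpr h) (h'.add_one)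
          · exact (Nat.even_or_odd l).resolve_left fun h' => (Nat.not_even_iff_odd.mpr h'.add_one) h
      exact (key _).1 ⟨m, rfl⟩
    have hsnat : s.natAbs * (q + 1) = 2 ^ (n + 1) := by
      have := congrArg Int.natAbs h2
      rw [Int.natAbs_mul, Int.natAbs_pow] at this
      exact this
    obtain ⟨g, -, hg⟩ := (Nat.dvd_prime_pow Nat.prime_two).mp (Dvd.intro _ hsnat)
    have hs1 : s.natAbs = 1 := by
      rcases g with _ | g
      · exact hg
      · exfalso
        have h3 : Odd s.natAbs := Int.natAbs_odd.mpr hsodd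
        rw [hg] at h3
        exact (Nat.not_even_iff_odd.mpr h3) (Nat.even_pow.mpr ⟨even_two, by omega⟩)
    rw [hs1, one_mul, ← hk', Nat.add_right_cancel_iff] at hsnat
    have h4 := Nat.pow_lt_pow_right hq.one_lt (show 1 < 2 * m + 1 by omega)
    rw [pow_one, ← hsnat] at h4
    omega

set_option maxHeartbeats 1000000 in
/-- In the base configuration the twists centralise every core modulo scalars. -/
theorem twists_comm_core {K : Type w} [Field K] [IsAlgClosed K] {r : ℕ} [hrf : Fact r.Prime] [CharP K r]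
    (hr2 : r ≠ 2) {V : Type v} [AddCommGroup V] [Module K V] [FiniteDimensional K V] [Nontrivial V]
    {N : Type u} [Group N] [Finite N] [Group.IsSolvable N] {γ : N →* End K V} (hγ : Function.Injective γ)
    {σ : MulAut N} (hab : ScalarAbelian γ σ) (hodd : Odd (Nat.card N)) {S : End K V} {n : ℕ}
    (hσ : σ ^ 2 ^ (n + 1) = 1) (hS : S ^ 2 ^ (n + 1) = 1) (hSγ : ∀ g, S * γ g = γ (σ g) * S)
    (hnf : ∀ v, S v = v → v = 0) (q : ℕ) [Fact q.Prime] :
    ∀ t ∈ twists (σ ^ 2 ^ n), ∀ x ∈ pCore q N, ⁅t, x⁆ ∈ scalars γ := by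
  classical
  set τ := σ ^ 2 ^ n with hτdef
  have hτ : τ ^ 2 = 1 := by rw [hτdef, ← pow_mul, ← pow_succ, hσ]
  have hP : 0 < 2 ^ (n + 1) := Nat.two_pow_pos _
  haveI hZn := scalars_normal hγ
  set Q := pCore q N with hQdef
  haveI := CfsgLib.Fitting.pCore_normal (G := N) q
  have hQc : ∀ x ∈ Q, σ x ∈ Q := char_invariant σ Q
  have hfix : ∀ z ∈ scalars γ, σ z = z := fun z hz => scalars_fixed hγ hP hS hSγ hz
  obtain ⟨R, C, hRdef, hCdef, hRσ, hCσ, hRC, hdec, hcenR, hclR, hfree⟩ :=
    exists_decomp hγ hab hodd hσ hS hSγ q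
  let π := QuotientGroup.mk' (scalars γ)
  have hπ : ∀ x, π x = 1 ↔ x ∈ scalars γ := fun x => QuotientGroup.eq_one_iff x
  have hcomm_iff : ∀ t a : N, ⁅t, a⁆ ∈ scalars γ ↔ π t * π a = π a * π t := fun t a => by
    rw [← hπ, map_commutatorElement, commutatorElement_eq_one_iff_mul_comm]
  -- if the involutory power is a scalar on the core modulo scalars, conjugation commutes with it
  have hscal : ∀ f : N ⧸ scalars γ → N ⧸ scalars γ, (∀ a ∈ Q, π (τ a) = f (π a)) →
      (∀ g a, f (g * a * g⁻¹) = g * f a * g⁻¹) → (∀ g a, g * f a = f a * g → g * a = a * g) →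
      ∀ t ∈ twists τ, ∀ x ∈ Q, ⁅t, x⁆ ∈ scalars γ := by
    intro f hf hfc hfcomm t ht x hx
    rw [hcomm_iff]
    refine hfcomm _ _ ?_
    have hle : twists τ ≤ (Subgroup.centralizer {f (π x)}).comap π := by
      rw [twists, Subgroup.closure_le]
      rintro _ ⟨g, rfl⟩
      rw [SetLike.mem_coe, Subgroup.mem_comap, Subgroup.mem_centralizer_singleton_iff]
      have h1 : π (τ (g * x * g⁻¹)) = π g * f (π x) * (π g)⁻¹ := by
        rw [hf _ (Subgroup.Normal.conj_mem inferInstance x hx g), map_mul, map_mul, map_inv, hfc]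
      rw [map_mul τ, map_mul τ, map_inv τ, map_mul, map_mul, map_inv, hf x hx] at h1
      rw [map_mul, map_inv]
      calc (π g)⁻¹ * π (τ g) * f (π x) = (π g)⁻¹ * (π (τ g) * f (π x) * (π (τ g))⁻¹) * π (τ g) := by group
        _ = f (π x) * ((π g)⁻¹ * π (τ g)) := by rw [h1]; group
    exact Subgroup.mem_centralizer_singleton_iff.mp (hle ht)
  by_cases hR1 : R ≤ scalars γ
  · refine hscal id ?_ (fun _ _ => rfl) (fun _ _ h => h)
    intro a ha
    obtain ⟨x, hx, y, hy, rfl⟩ := hdec a ha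
    show π (τ (x * y)) = π (x * y)
    have hτz : ∀ z ∈ scalars γ, τ z = z := fun z hz => by
      have : ∀ i : ℕ, (σ ^ i) z = z := fun i => by
        induction i with
        | zero => rfl
        | succ i ih => rw [pow_succ, MulAut.mul_apply, hfix z hz, ih]
      exact this _
    rw [map_mul τ, hτz x (hR1 hx), fixed_of_step hodd τ hτ (hτz _ ((hCdef y).mp hy).2)]
  by_cases hC1 : C ≤ scalars γ
  · refine hscal (·⁻¹) ?_ (fun g a => by simp [mul_assoc]) (fun g a h => by
      have h' := (show Commute g a⁻¹ from h).inv_right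
      rw [inv_inv] at h'
      exact h'.eq)
    intro a ha
    obtain ⟨x, hx, y, hy, rfl⟩ := hdec a ha
    have hy1 : π y = 1 := (hπ y).mpr (hC1 hy)
    have hy2 : π (τ y) = 1 := by
      have h1 := (hπ _).mpr ((hCdef y).mp hy).2
      rwa [map_mul, map_inv, hy1, inv_one, one_mul] at h1
    rw [map_mul τ, map_mul, map_mul, hy1, hy2, mul_one, mul_one]
    refine eq_inv_of_mul_eq_one_left ?_
    rw [← map_mul, hπ]
    exact ((hRdef x).mp hx).2
  -- the mixed case
  have hn : n ≠ 0 ∧ q + 1 = 2 ^ (n + 1) ∧ (∀ y ∈ C, σ y = y) ∧ (Subgroup.center R).index = q ^ 2 := by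
    have hinjR : Function.Injective (γ.comp R.subtype) := hγ.comp R.subtype_injective
    have hneR : Subgroup.center R ≠ ⊤ :=
      fun h => hR1 fun x hx => (hcenR ⟨x, hx⟩).mp (h ▸ Subgroup.mem_top _)
    have h2le : 1 < 2 ^ (n + 1) := Nat.one_lt_two_pow (by omega)
    obtain ⟨hidx, U, ρU, T, f, hf0, hTP, hfg, hall⟩ := block_of_no_fixed (γ.comp R.subtype) hinjR
      (fun z hz => (hcenR z).mp hz) hclR hneR (subAut σ R hRσ) (subAut_pow_eq_one σ R hRσ hσ) S hS
      (fun a => hSγ a) (hfree hRσ) h2le (two_pow_ne_zero hr2 _) hnf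
    have hqR : IsPGroup q R := (CfsgLib.PCore.pCore_isPGroup (p := q) (G := N)).to_le fun a ha => ((hRdef a).mp ha).1
    obtain ⟨i, hi⟩ := hqR.exists_card_eq
    obtain ⟨j, -, hj⟩ := (Nat.dvd_prime_pow (Fact.out : q.Prime)).mp
      (hi ▸ Subgroup.index_dvd_card (Subgroup.center R))
    have hne1 : (2 ^ (n + 1) - 1) ^ 2 ≠ 1 := fun h => hneR (Subgroup.index_eq_one.mp (hidx.trans h))
    have hq1 := eq_of_sq_eq_prime_pow (Fact.out : q.Prime) hne1 (hj.symm.trans hidx)
    have hn0 : n ≠ 0 := fun e => hne1 (by subst e; norm_num)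
    refine ⟨hn0, hq1, ?_, by rw [hidx, ← hq1, Nat.add_sub_cancel]⟩
    -- the operator is trivial on the centraliser part
    let Kf : Subgroup N :=
      { carrier := {a | a ∈ Q ∧ ∀ g : U →ₗ[K] V, (∀ b u, γ (b : R) (g u) = g (ρU b u)) → ∀ u, γ a (g u) = g u}
        one_mem' := ⟨Q.one_mem, fun g _ u => by rw [map_one]; rfl⟩
        mul_mem' := fun {a b} ha hb => ⟨Q.mul_mem ha.1 hb.1, fun g hg u => by
          rw [map_mul, Module.End.mul_apply, hb.2 g hg u, ha.2 g hg u]⟩
        inv_mem' := fun {a} ha => ⟨Q.inv_mem ha.1, fun g hg u => by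
          conv_lhs => rw [← ha.2 g hg u, ← Module.End.mul_apply, ← map_mul, inv_mul_cancel, map_one]
          rfl⟩ }
    have hKscal : ∀ z ∈ Kf, z ∈ scalars γ → z = 1 := by
      rintro z hz ⟨c, hc⟩
      obtain ⟨u, hu⟩ : ∃ u, f u ≠ 0 := by
        by_contra h
        push Not at h
        exact hf0 (LinearMap.ext h)
      have h1 := hz.2 f hfg u
      rw [hc] at h1
      have h2 : c = 1 := smul_left_injective K hu (show c • f u = (1 : K) • f u by rw [one_smul]; exact h1)
      exact hγ (by rw [hc, h2, one_smul, map_one])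
    have hconj : ∀ z ∈ Kf, ∀ b ∈ Q, b * z * b⁻¹ ∈ Kf := by
      intro z hz b hb
      obtain ⟨x, hx, y, hy, rfl⟩ := hdec b hb
      refine ⟨Q.mul_mem (Q.mul_mem hb hz.1) (Q.inv_mem hb), fun g hg u => ?_⟩
      have hyg : ∀ (b : R) u, γ (b : N) ((γ y⁻¹ ∘ₗ g) u) = (γ y⁻¹ ∘ₗ g) (ρU b u) := fun b u => by
        show γ (b : N) (γ y⁻¹ (g u)) = γ y⁻¹ (g (ρU b u))
        rw [← hg b u, ← Module.End.mul_apply, ← map_mul, hRC b b.2 _ (C.inv_mem hy), map_mul,
          Module.End.mul_apply]
      have h1 : γ x⁻¹ (g u) = g (ρU ⟨x, hx⟩⁻¹ u) := hg (⟨x, hx⟩⁻¹) u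
      rw [show x * y * z * (x * y)⁻¹ = x * (y * z * y⁻¹) * x⁻¹ by group, map_mul, map_mul, Module.End.mul_apply,
        Module.End.mul_apply, h1, map_mul, map_mul, Module.End.mul_apply, Module.End.mul_apply,
        show γ y⁻¹ (g (ρU ⟨x, hx⟩⁻¹ u)) = (γ y⁻¹ ∘ₗ g) (ρU ⟨x, hx⟩⁻¹ u) from rfl, hz.2 _ hyg]
      show γ x (γ y (γ y⁻¹ (g (ρU ⟨x, hx⟩⁻¹ u)))) = g u
      rw [← Module.End.mul_apply (γ y), ← map_mul, mul_inv_cancel, map_one, Module.End.one_apply, ← h1,
        ← Module.End.mul_apply, ← map_mul, mul_inv_cancel, map_one, Module.End.one_apply]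
    have hKbot : ∀ z ∈ Kf, z = 1 := by
      by_contra hcon
      push Not at hcon
      obtain ⟨z₀, hz₀, hz₀1⟩ := hcon
      haveI : Group.IsNilpotent Q := (CfsgLib.PCore.pCore_isPGroup (p := q) (G := N)).isNilpotent
      obtain ⟨k, hk⟩ := (Subgroup.isNilpotent_iff_lowerCentralSeries (S := Q)).mp inferInstance
      have key : ∀ d, ∀ j, j + d = k → ∀ z ∈ Kf, z ∈ Q.lowerCentralSeries j → z = 1 := by
        intro d
        induction d with
        | zero =>
          intro j hj z _ hz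
          rw [add_zero] at hj
          rw [hj, hk] at hz
          exact Subgroup.mem_bot.mp hz
        | succ d ih =>
          intro j hj z hzK hz
          set J : Subgroup N := (Subgroup.center Q).map Q.subtype
          haveI : J.Characteristic := inferInstance
          refine hKscal z hzK (hab J inferInstance (char_invariant σ J) (by
            rintro _ ⟨a, -, rfl⟩ _ ⟨b, hb, rfl⟩
            exact congrArg Subtype.val (Subgroup.mem_center_iff.mp hb a))
            ⟨⟨z, hzK.1⟩, Subgroup.mem_center_iff.mpr fun b => Subtype.ext ?_, rfl⟩)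
          have h1 : ⁅z, (b : N)⁆ ∈ Kf := by
            have := Kf.mul_mem hzK (hconj _ (Kf.inv_mem hzK) b b.2)
            rwa [commutatorElement_def, show z * b * z⁻¹ * (b : N)⁻¹ = z * ((b : N) * z⁻¹ * (b : N)⁻¹) by group]
          have h2 : ⁅z, (b : N)⁆ ∈ Q.lowerCentralSeries (j + 1) := Subgroup.commutator_mem_commutator hz b.2
          exact (commutatorElement_eq_one_iff_mul_comm.mp (ih (j + 1) (by omega) _ h1 h2)).symm
      exact hz₀1 (key k 0 (by omega) z₀ hz₀ hz₀.1)
    intro y hy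
    have hT : Function.Surjective T := fun u => ⟨(T ^ (2 ^ (n + 1) - 1)) u, by
      rw [← Module.End.mul_apply, ← pow_succ', Nat.sub_add_cancel hP, hTP]; rfl⟩
    have hmem : y⁻¹ * σ y ∈ Kf := by
      refine ⟨Q.mul_mem (Q.inv_mem ((hCdef y).mp hy).1) (hQc _ ((hCdef y).mp hy).1), fun g hg u => ?_⟩
      obtain ⟨u, rfl⟩ := hT u
      have hyg : ∀ (b : R) u, γ (b : N) ((γ y ∘ₗ g) u) = (γ y ∘ₗ g) (ρU b u) := fun b u => by
        show γ (b : N) (γ y (g u)) = γ y (g (ρU b u))
        rw [← hg b u, ← Module.End.mul_apply, ← map_mul, hRC b b.2 _ hy, map_mul, Module.End.mul_apply]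
      have h1 : S (γ y (g u)) = γ y (g (T u)) := hall _ hyg u
      rw [← Module.End.mul_apply S, hSγ, Module.End.mul_apply, hall g hg] at h1
      rw [map_mul, Module.End.mul_apply, h1, ← Module.End.mul_apply, ← map_mul, inv_mul_cancel, map_one]
      rfl
    exact (inv_mul_eq_one.mp (hKbot _ hmem)).symm
  obtain ⟨hn0, hq1, hCfix, hidx⟩ := hn
  -- the action on the core modulo scalars has a small operator
  let W : Subgroup (N ⧸ scalars γ) := Q.map π
  haveI hWn : W.Normal := Subgroup.Normal.map inferInstance π (QuotientGroup.mk'_surjective _)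
  haveI : IsMulCommutative W := isMulCommutative_iff.mpr fun ⟨a, ha⟩ ⟨b, hb⟩ => Subtype.ext (by
    obtain ⟨a, ha', rfl⟩ := ha
    obtain ⟨b, hb', rfl⟩ := hb
    exact (hcomm_iff a b).mp (commutator_mem hγ hab ha' hb'))
  have hk : ∀ z ∈ scalars γ, σ z ∈ scalars γ := fun z hz => by rw [hfix z hz]; exact hz
  let σb := ModuleTrick.quotientAut σ (scalars γ) hk
  have hWσ : ∀ w ∈ W, σb w ∈ W := by
    rintro _ ⟨a, ha, rfl⟩
    exact ⟨σ a, hQc a ha, rfl⟩
  let σW := subAut σb W hWσ
  have hσW : σW ^ 2 ^ (n + 1) = 1 := subAut_pow_eq_one σb W hWσ (ModuleTrick.quotientAut_pow_eq_one σ _ hk hσ)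
  let s : AddMonoid.End (Additive W) := MonoidHom.toAdditive σW.toMonoidHom
  have hspow : ∀ (i : ℕ) (x : Additive W), (s ^ i) x = Additive.ofMul ((σW ^ i) (Additive.toMul x)) := by
    intro i
    induction i with
    | zero => intro x; rfl
    | succ i ih => intro x; rw [pow_succ, pow_succ, MulAut.mul_apply]; exact ih (s x)
  have hs : s ^ 2 ^ (n + 1) = 1 := AddMonoidHom.ext fun x => (hspow _ x).trans (by rw [hσW]; rfl)
  let c := ModuleTrick.conjEnd W
  have hsc : ∀ g, s * c g = c (σb g) * s := fun g => AddMonoidHom.ext fun x =>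
    Additive.toMul.injective (Subtype.ext (by
      show σb ((Additive.toMul (c g x) : W) : N ⧸ scalars γ) =
        ((Additive.toMul (c (σb g) (s x)) : W) : N ⧸ scalars γ)
      rw [ModuleTrick.conjEnd_apply, ModuleTrick.conjEnd_apply, map_mul, map_mul, map_inv]
      rfl))
  have hA : ∀ a : Additive W, q • a = 0 := fun a => by
    apply Additive.toMul.injective
    apply Subtype.ext
    rw [toMul_nsmul, Subgroup.coe_pow]
    obtain ⟨b, hb, hba⟩ := (Additive.toMul a : W).2
    rw [← hba, ← map_pow]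
    exact (hπ _).mpr (pow_mem hγ hab hb)
  obtain ⟨U', _, _, _, Ψ, hΨ, hrank⟩ := exists_linear_model_rank (p := q) hA
  have hcard : Nat.card (AddMonoidHom.range ((s - 1 : AddMonoid.End (Additive W)) : Additive W →+ Additive W)) ≤ q ^ 2 := by
    have hRb : Nat.card (π.comp R.subtype).range = q ^ 2 := by
      rw [← Subgroup.index_ker, ← hidx]
      congr 1
      ext x
      rw [MonoidHom.mem_ker, hcenR]
      exact hπ _
    rw [← hRb]
    have hmem : ∀ z : AddMonoidHom.range ((s - 1 : AddMonoid.End (Additive W)) : Additive W →+ Additive W),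
        ((Additive.toMul (z : Additive W) : W) : N ⧸ scalars γ) ∈ (π.comp R.subtype).range := by
      rintro ⟨_, x, rfl⟩
      obtain ⟨a, ha, hax⟩ := (Additive.toMul x : W).2
      obtain ⟨u, hu, y, hy, rfl⟩ := hdec a ha
      show σb ((Additive.toMul x : W) : N ⧸ scalars γ) / ((Additive.toMul x : W) : N ⧸ scalars γ) ∈ _
      rw [← hax]
      refine ⟨⟨σ u * u⁻¹, R.mul_mem (hRσ u hu) (R.inv_mem hu)⟩, ?_⟩
      show π (σ u * u⁻¹) = π (σ (u * y)) / π (u * y)
      rw [← map_div, map_mul σ, hCfix y hy, mul_div_mul_right_eq_div, div_eq_mul_inv]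
    refine Nat.card_le_card_of_injective (fun z => (⟨_, hmem z⟩ : (π.comp R.subtype).range)) fun a b h => ?_
    exact Subtype.ext (Additive.toMul.injective (Subtype.ext (congrArg Subtype.val h :)))
  have hunip := rpow_twists_of_rank (n := n) (by omega) hq1 (K := AlgebraicClosure (ZMod q))
    (Module.finrank (AlgebraicClosure (ZMod q)) U') (Ψ.toMonoidHom.comp c) σb (Ψ s) le_rfl
    (Odd.of_dvd_nat hodd (Subgroup.card_quotient_dvd_card _)) inferInstance
    (ModuleTrick.quotientAut_pow_eq_one σ _ hk hσ) (by rw [← map_pow, hs, map_one])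
    (fun g => by
      show Ψ s * Ψ (c g) = Ψ (c (σb g)) * Ψ s
      rw [← map_mul, ← map_mul, hsc])
    (by rw [← map_one Ψ, ← map_sub]; exact hrank _ 2 hcard)
  haveI := twists_normal τ
  refine comm_mem_of_pGroup_action hγ hab hfix (twists τ) ?_ ?_
  · intro x hx
    have hle : twists τ ≤ (twists τ).comap σ.toMonoidHom := by
      rw [twists, Subgroup.closure_le]
      rintro _ ⟨g, rfl⟩
      show σ (g⁻¹ * τ g) ∈ twists τ
      rw [map_mul, map_inv, show σ (τ g) = τ (σ g) by
        rw [hτdef, ← MulAut.mul_apply, ← MulAut.mul_apply, ← pow_succ', ← pow_succ]]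
      exact twist_mem τ _
    exact hle hx
  · intro t ht
    refine ⟨orderOf (π t), fun x hx => ?_⟩
    have h1 : π t ∈ twists (σb ^ 2 ^ n) := map_twists_le π τ (σb ^ 2 ^ n)
      (fun g => (ModuleTrick.quotientAut_pow_mk σ _ hk _ g).symm) ⟨t, ht, rfl⟩
    have h2 : c ((π t) ^ q ^ orderOf (π t)) = 1 := hΨ (by
      rw [map_one Ψ]; exact hunip _ h1)
    rw [hcomm_iff, map_pow]
    have h3 := ModuleTrick.conjEnd_apply W ((π t) ^ q ^ orderOf (π t))
      (Additive.ofMul (⟨π x, ⟨x, hx, rfl⟩⟩ : W))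
    rw [show ModuleTrick.conjEnd W ((π t) ^ q ^ orderOf (π t)) = 1 from h2] at h3
    exact (mul_inv_eq_iff_eq_mul.mp h3.symm)

set_option maxHeartbeats 1600000 in
theorem rpow_lcs_twists {r : ℕ} [hrf : Fact r.Prime] (hr2 : r ≠ 2) {K : Type w} [Field K] [IsAlgClosed K]
    [CharP K r] :
    ∀ (d : ℕ) {V : Type v} [AddCommGroup V] [Module K V] [FiniteDimensional K V] {N : Type u} [Group N]
      [Finite N] (γ : N →* End K V) (σ : MulAut N) (S : End K V) (n : ℕ),
      Module.finrank K V ≤ d → Odd (Nat.card N) → Group.IsSolvable N → σ ^ 2 ^ (n + 1) = 1 →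
      S ^ 2 ^ (n + 1) = 1 → (∀ g, S * γ g = γ (σ g) * S) → (∀ v, S v = v → v = 0) →
      ∃ k, ∀ c ∈ (twists (σ ^ 2 ^ n)).lowerCentralSeries k, RPow γ r c := by
  intro d
  induction d with
  | zero =>
    intro V _ _ _ N _ _ γ σ S n hd _ _ _ _ _ _
    haveI : Subsingleton V := Module.finrank_zero_iff.mp (Nat.le_zero.mp hd)
    exact ⟨0, fun c _ => LinearMap.ext fun v => Subsingleton.elim _ _⟩
  | succ d ih =>
    suffices hstep : ∀ {V : Type v} [AddCommGroup V] [Module K V] [FiniteDimensional K V] {N : Type u} [Group N]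
        [Finite N] (γ : N →* End K V) (σ : MulAut N) (S : End K V) (n : ℕ), Function.Injective γ →
        Module.finrank K V ≤ d + 1 → Odd (Nat.card N) → Group.IsSolvable N → σ ^ 2 ^ (n + 1) = 1 →
        S ^ 2 ^ (n + 1) = 1 → (∀ g, S * γ g = γ (σ g) * S) → (∀ v, S v = v → v = 0) →
        ∃ k, ∀ c ∈ (twists (σ ^ 2 ^ n)).lowerCentralSeries k, RPow γ r c by
      intro V _ _ _ N _ _ γ σ S n hd hodd hsol hσ hS hSγ hnf
      have hk := ker_invariant hSγ (Nat.two_pow_pos _) hS
      let σb := ModuleTrick.quotientAut σ γ.ker hk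
      have hin : Function.Injective (QuotientGroup.lift γ.ker γ le_rfl) := by
        rw [← MonoidHom.ker_eq_bot_iff, Subgroup.eq_bot_iff_forall]
        intro x hx
        obtain ⟨x, rfl⟩ := QuotientGroup.mk_surjective x
        exact (QuotientGroup.eq_one_iff x).2 hx
      obtain ⟨k, hkk⟩ := hstep _ σb S n hin hd (Odd.of_dvd_nat hodd (Subgroup.card_quotient_dvd_card _))
        (by haveI := hsol; infer_instance) (ModuleTrick.quotientAut_pow_eq_one σ _ hk hσ) hS
        (fun x => by obtain ⟨x, rfl⟩ := QuotientGroup.mk_surjective x; exact hSγ x) hnf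
      refine ⟨k, fun c hc => rpow_of_map (QuotientGroup.mk' γ.ker) (QuotientGroup.lift γ.ker γ le_rfl) γ
        (fun _ => rfl) hrf.out (hkk _ ?_)⟩
      refine lcs_mono (map_twists_le (QuotientGroup.mk' γ.ker) (σ ^ 2 ^ n) (σb ^ 2 ^ n)
        (fun g => (ModuleTrick.quotientAut_pow_mk σ γ.ker hk _ g).symm)) k ?_
      rw [← Subgroup.map_lowerCentralSeries]
      exact ⟨c, hc, rfl⟩
    intro V _ _ _ N _ _ γ σ S n hγ hd hodd hsol hσ hS hSγ hnf
    have hP : 0 < 2 ^ (n + 1) := Nat.two_pow_pos _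
    set τ := σ ^ 2 ^ n with hτdef
    have hτ : τ ^ 2 = 1 := by rw [hτdef, ← pow_mul, ← pow_succ, hσ]
    rcases subsingleton_or_nontrivial V with hV | hV
    · exact ⟨0, fun c _ => LinearMap.ext fun v => Subsingleton.elim _ _⟩
    by_cases hred : ∃ W : Submodule K V, W ≠ ⊥ ∧ W ≠ ⊤ ∧ (∀ g, ∀ w ∈ W, γ g w ∈ W) ∧ ∀ w ∈ W, S w ∈ W
    · obtain ⟨W, hW0, hW1, hγW, hSW⟩ := hred
      obtain ⟨k₁, h₁⟩ := ih (subRep γ W hγW) σ (subOp S W hSW) n
        (by have := Submodule.finrank_lt hW1; omega) hodd hsol hσ (subOp_pow_eq_one hSW hS)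
        (subOp_semilinear hSγ hγW hSW) (fun v hv => Subtype.ext (hnf v (congrArg Subtype.val hv)))
      obtain ⟨k₂, h₂⟩ := ih (quotRep γ W hγW) σ (quotOp S W hSW) n (by
          have := Submodule.finrank_quotient_add_finrank W
          have h2 : 0 < Module.finrank K W := Nat.pos_of_ne_zero fun e => hW0 (Submodule.finrank_eq_zero.mp e)
          omega) hodd hsol hσ (quotOp_pow_eq_one hSW hS) (quotOp_semilinear hSγ hγW hSW) (by
          intro x hx
          obtain ⟨v, rfl⟩ := Submodule.Quotient.mk_surjective W x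
          have hmem : S v - v ∈ W := (Submodule.Quotient.eq W).mp hx
          have hinj : Function.Injective ⇑(subOp S W hSW - 1 : End K W) := by
            rw [← LinearMap.ker_eq_bot, LinearMap.ker_eq_bot']
            intro w hw
            rw [LinearMap.sub_apply, Module.End.one_apply, sub_eq_zero] at hw
            exact Subtype.ext (hnf w (congrArg Subtype.val hw))
          obtain ⟨w, hw⟩ := LinearMap.injective_iff_surjective.mp hinj ⟨S v - v, hmem⟩
          have hw' : S (w : V) - w = S v - v := congrArg Subtype.val hw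
          have h0 := hnf (v - w) (by rw [map_sub, sub_eq_sub_iff_sub_eq_sub]; exact hw'.symm)
          rw [Submodule.Quotient.mk_eq_zero, sub_eq_zero.mp h0]
          exact w.2)
      refine ⟨max k₁ k₂, fun c hc => rpow_glue γ W hγW
        (h₁ c (Subgroup.lowerCentralSeries_antitone _ (le_max_left _ _) hc))
        (h₂ c (Subgroup.lowerCentralSeries_antitone _ (le_max_right _ _) hc))⟩
    push Not at hred
    have hirr : ∀ W : Submodule K V, (∀ g, ∀ w ∈ W, γ g w ∈ W) → (∀ w ∈ W, S w ∈ W) → W = ⊥ ∨ W = ⊤ :=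
      fun W h1 h2 => by
        by_contra h
        push Not at h
        obtain ⟨w, hw, hw'⟩ := hred W h.1 h.2 h1
        exact hw' (h2 w hw)
    by_cases hA : ∃ A : Subgroup N, A.Normal ∧ (∀ x ∈ A, σ x ∈ A) ∧ (∀ a ∈ A, ∀ b ∈ A, a * b = b * a) ∧
        ¬ A ≤ scalars γ
    · obtain ⟨A, hAn, hAσ, hAc, hAs⟩ := hA
      have htop := eq_top_of_irreducible σ hP hS hSγ hAc hAσ hirr
      set H := charStab γ A with hH
      have hHσ := charStab_invariant γ A σ hAσ hP hS hSγ
      have hproper : ∀ χ : A → K, eigSpace γ A χ ≠ ⊤ := fun χ h => hAs fun a ha =>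
        ⟨χ ⟨a, ha⟩, LinearMap.ext fun v => (show v ∈ eigSpace γ A χ from h ▸ Submodule.mem_top) ⟨a, ha⟩⟩
      -- orbits are shorter than the order of the operator
      have hperiod : ∀ χ ∈ eigChars γ A, ∃ i ≤ n,
          (∀ a : A, χ (((subAut σ A hAσ) ^ 2 ^ i) a) = χ a) ∧
          ∀ w ∈ eigSpace γ A χ, (S ^ 2 ^ i) w = w → w = 0 := by
        intro χ hχ
        obtain ⟨j, hj0, hjP, hjfix, hjmin⟩ := exists_period A hAσ hP hσ χ
        obtain ⟨i, -, rfl⟩ := (Nat.dvd_prime_pow Nat.prime_two).mp hjP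
        have hnf' : ∀ w ∈ eigSpace γ A χ, (S ^ 2 ^ i) w = w → w = 0 := by
          intro w hw hfw
          have hsum : ∑ l ∈ Finset.range (2 ^ i), (S ^ l) w = 0 := by
            refine hnf _ ?_
            have h := mul_geom_sum S (2 ^ i)
            have h' := LinearMap.congr_fun h w
            rw [sub_mul, one_mul, LinearMap.sub_apply, LinearMap.sub_apply, Module.End.mul_apply,
              LinearMap.sum_apply, hfw, Module.End.one_apply, sub_self, sub_eq_zero] at h'
            exact h'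
          have h1 := orbit_indep γ A σ hAσ hSγ (orbit_sep A σ hAσ hjmin) (fun _ => w) (fun _ => hw) hsum 0
            (Nat.two_pow_pos i)
          simpa using h1
        refine ⟨i, ?_, hjfix, hnf'⟩
        by_contra hlt
        obtain ⟨w, hw, hw0⟩ := (Submodule.ne_bot_iff _).mp hχ
        refine hw0 (hnf' w hw ?_)
        rw [show i = n + 1 + (i - (n + 1)) by omega, pow_add, pow_mul, hS, one_pow]
        rfl
      have hAτ : ∀ x ∈ A, τ x ∈ A := fun x hx => pow_apply_mem hAσ _ x hx
      have hfix : ∀ χ ∈ eigChars γ A, ∀ a : A, χ ⟨τ a, hAτ a a.2⟩ = χ a := by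
        intro χ hχ a
        obtain ⟨i, hi, hifix, -⟩ := hperiod χ hχ
        obtain ⟨l, hl⟩ : 2 ^ i ∣ 2 ^ n := pow_dvd_pow 2 hi
        have h1 := aut_fix_mul A σ hAσ hifix l a
        rw [← hl] at h1
        rw [← h1]
        exact congrArg χ (Subtype.ext (subAut_pow_coe σ A hAσ _ a).symm)
      have hmem := twist_mem_charStab γ A τ hτ hAτ hfix
      set σH := subAut σ H hHσ with hσH
      have hHodd : Odd (Nat.card H) := Odd.of_dvd_nat hodd (Subgroup.card_subgroup_dvd_card H)
      have hHsol : Group.IsSolvable H := by haveI := hsol; infer_instance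
      have hcomp : ∀ χ : eigChars γ A, ∃ k, ∀ c ∈ (twists (σH ^ 2 ^ n)).lowerCentralSeries k,
          RPow (stabRep γ A χ.2) r c := by
        rintro ⟨χ, hχ⟩
        obtain ⟨i, hi, hifix, hinf⟩ := hperiod χ hχ
        set W := eigSpace γ A χ with hW
        have hSi : ∀ w ∈ W, (S ^ 2 ^ i) w ∈ W := fun w hw => pow_mem_of_fix γ A σ hAσ hSγ hifix hw
        have hpow : 2 ^ i * 2 ^ (n - i + 1) = 2 ^ (n + 1) := by rw [← pow_add]; congr 1; omega
        obtain ⟨k, hk⟩ := ih (stabRep γ A hχ) (σH ^ 2 ^ i) (subOp (S ^ 2 ^ i) W hSi) (n - i)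
          (by have := Submodule.finrank_lt (hproper χ); omega) hHodd hHsol
          (by rw [← pow_mul, hpow]; exact subAut_pow_eq_one σ H hHσ hσ)
          (subOp_pow_eq_one hSi (by rw [← pow_mul, hpow, hS]))
          (fun g => LinearMap.ext fun w => Subtype.ext (by
            have := LinearMap.congr_fun (pow_conj γ σ hSγ (2 ^ i) (g : N)) (w : V)
            rw [← subAut_pow_coe σ H hHσ (2 ^ i) g] at this
            exact this))
          (fun w hw => Subtype.ext (hinf w w.2 (congrArg Subtype.val hw)))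
        rw [← pow_mul, ← pow_add, Nat.add_sub_cancel' hi] at hk
        exact ⟨k, hk⟩
      choose kf hkf using hcomp
      haveI : Fintype (eigChars γ A) := (eigChars_finite γ A).fintype
      refine ⟨Finset.univ.sup kf, fun c hc => ?_⟩
      have hle := lcs_mono (twists_le_map hodd τ hτ H hmem (σH ^ 2 ^ n)
        (fun y => subAut_pow_coe σ H hHσ _ y)) (Finset.univ.sup kf) hc
      rw [← Subgroup.map_lowerCentralSeries] at hle
      obtain ⟨c', hc', rfl⟩ := hle
      refine rpow_subtype γ H ?_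
      show γ ((c' ^ r ^ orderOf c' : H) : N) = 1
      refine LinearMap.ext fun v => ?_
      induction (show v ∈ ⨆ χ : eigChars γ A, eigSpace γ A (χ : A → K) by rw [htop]; trivial) using
        Submodule.iSup_induction' with
      | mem χ v hv =>
        exact congrArg Subtype.val (LinearMap.congr_fun
          (hkf χ c' (Subgroup.lowerCentralSeries_antitone _ (Finset.le_sup (Finset.mem_univ χ)) hc')) ⟨v, hv⟩)
      | zero => simp
      | add x y _ _ hx hy => simp only [map_add, hx, hy, Module.End.one_apply]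
    -- the base configuration
    push Not at hA
    have hab : ScalarAbelian γ σ := fun A h1 h2 h3 => hA A h1 h2 h3
    haveI := hsol
    haveI := CfsgLib.Fitting.fitting_normal (G := N)
    haveI hZn := scalars_normal hγ
    let π := QuotientGroup.mk' (scalars γ)
    have hπ : ∀ x, π x = 1 ↔ x ∈ scalars γ := fun x => QuotientGroup.eq_one_iff x
    have hTF : ∀ t ∈ twists τ, ∀ x ∈ fittingSubgroup N, ⁅t, x⁆ ∈ scalars γ := by
      intro t ht x hx
      have hle : fittingSubgroup N ≤ (Subgroup.centralizer {π t}).comap π := by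
        rw [CfsgLib.Fitting.fitting_eq_iSup_pCore]
        refine iSup_le fun p a ha => ?_
        haveI := Fact.mk (Nat.prime_of_mem_primeFactors p.2)
        have h1 := twists_comm_core hr2 hγ hab hodd hσ hS hSγ hnf (p : ℕ) t ht a ha
        rw [← hπ, map_commutatorElement, commutatorElement_eq_one_iff_mul_comm] at h1
        rw [Subgroup.mem_comap, Subgroup.mem_centralizer_singleton_iff]
        exact h1.symm
      rw [← hπ, map_commutatorElement, commutatorElement_eq_one_iff_mul_comm]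
      exact (Subgroup.mem_centralizer_singleton_iff.mp (hle hx)).symm
    refine ⟨2, fun c hc => ?_⟩
    -- commutators of twists centralise the Fitting subgroup
    have hJ : ∀ z ∈ fittingSubgroup N, (∀ f ∈ fittingSubgroup N, f * z = z * f) → z ∈ scalars γ := by
      intro z hz hzc
      set J : Subgroup N := (Subgroup.center (fittingSubgroup N)).map (fittingSubgroup N).subtype
      haveI : (fittingSubgroup N).Characteristic := CfsgLib.Fitting.fitting_characteristic
      haveI : J.Characteristic := inferInstance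
      refine hab J inferInstance (char_invariant σ J) (by
        rintro _ ⟨a, -, rfl⟩ _ ⟨b, hb, rfl⟩
        exact congrArg Subtype.val (Subgroup.mem_center_iff.mp hb a))
        ⟨⟨z, hz⟩, Subgroup.mem_center_iff.mpr fun f => Subtype.ext (hzc f f.2), rfl⟩
    have h1 : (twists τ).lowerCentralSeries 1 ≤ scalars γ := by
      rw [Subgroup.lowerCentralSeries_succ, Subgroup.lowerCentralSeries_zero, Subgroup.commutator_le]
      intro a ha b hb
      have hcentral : ∀ f ∈ fittingSubgroup N, f * ⁅a, b⁆ = ⁅a, b⁆ * f := by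
        intro f₁ hf₁
        obtain ⟨f, hf, rfl⟩ : ∃ f ∈ fittingSubgroup N, (b * a) * f * (b * a)⁻¹ = f₁ :=
          ⟨(b * a)⁻¹ * f₁ * (b * a), by simpa using Subgroup.Normal.conj_mem inferInstance f₁ hf₁ (b * a)⁻¹,
            by group⟩
        have hza := hTF a ha f hf
        have hzb := hTF b hb f hf
        have conjf : ∀ t, t * f * t⁻¹ = ⁅t, f⁆ * f := fun t => by rw [commutatorElement_def]; group
        have hab' : (a * b) * f * (a * b)⁻¹ = ⁅a, f⁆ * ⁅b, f⁆ * f := by
          calc (a * b) * f * (a * b)⁻¹ = a * (b * f * b⁻¹) * a⁻¹ := by group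
            _ = a * ⁅b, f⁆ * a⁻¹ * (a * f * a⁻¹) := by rw [conjf b]; group
            _ = ⁅b, f⁆ * (⁅a, f⁆ * f) := by rw [scalars_central hγ hzb a, mul_inv_cancel_right, conjf a]
            _ = ⁅a, f⁆ * ⁅b, f⁆ * f := by rw [← mul_assoc, ← scalars_central hγ hzb ⁅a, f⁆]
        have hba : (b * a) * f * (b * a)⁻¹ = ⁅a, f⁆ * ⁅b, f⁆ * f := by
          calc (b * a) * f * (b * a)⁻¹ = b * (a * f * a⁻¹) * b⁻¹ := by group
            _ = b * ⁅a, f⁆ * b⁻¹ * (b * f * b⁻¹) := by rw [conjf a]; group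
            _ = ⁅a, f⁆ * (⁅b, f⁆ * f) := by rw [scalars_central hγ hza b, mul_inv_cancel_right, conjf b]
            _ = ⁅a, f⁆ * ⁅b, f⁆ * f := (mul_assoc _ _ _).symm
        calc (b * a) * f * (b * a)⁻¹ * ⁅a, b⁆ = (a * b) * f * (a * b)⁻¹ * ⁅a, b⁆ := by rw [hba, hab']
          _ = ⁅a, b⁆ * ((b * a) * f * (b * a)⁻¹) := by simp only [commutatorElement_def]; group
      refine hJ _ (CfsgLib.Fitting.centralizer_fitting_le ?_) hcentral
      exact Subgroup.mem_centralizer_iff.mpr fun f hf => hcentral f hf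
    have h2 : c ∈ (⊥ : Subgroup N) := by
      rw [Subgroup.lowerCentralSeries_succ] at hc
      rw [← Subgroup.commutator_eq_bot_iff_le_centralizer.mpr (fun z hz g _ => scalars_central hγ (h1 hz) g)]
      exact hc
    rw [Subgroup.mem_bot] at h2
    subst h2
    exact rpow_of γ hrf.out (b := 0) (by simp)

end CfsgLib.GrossHeight
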