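import Cfsg.Agent.Lib.GrossHeight.Clifford

/-!
Sub-operators, quotient operators and orbits of eigencharacters of a semilinear operator.
-/

set_option autoImplicit false

namespace CfsgLib.GrossHeight

open Module (End)

variable {K V : Type*} [Field K] [AddCommGroup V] [Module K V] {N : Type*} [Group N]
  {γ : N →* End K V} {σ : MulAut N} {S : End K V} (hSγ : ∀ g, S * γ g = γ (σ g) * S)

/-- The restriction of an operator. -/
def subOp (S : End K V) (W : Submodule K V) (h : ∀ w ∈ W, S w ∈ W) : End K W := S.restrict h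

/-- The induced operator on a quotient. -/
def quotOp (S : End K V) (W : Submodule K V) (h : ∀ w ∈ W, S w ∈ W) : End K (V ⧸ W) := W.mapQ W S h

theorem subOp_pow_coe (S : End K V) (W : Submodule K V) (h : ∀ w ∈ W, S w ∈ W) (i : ℕ) (w : W) :
    (((subOp S W h) ^ i) w : V) = (S ^ i) (w : V) := by
  induction i generalizing w with
  | zero => rfl
  | succ i ih => rw [pow_succ, pow_succ, Module.End.mul_apply, Module.End.mul_apply, ih]; rfl

theorem subOp_pow_eq_one {W : Submodule K V} (h : ∀ w ∈ W, S w ∈ W) {P : ℕ} (hS : S ^ P = 1) :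
    (subOp S W h) ^ P = 1 := LinearMap.ext fun w => Subtype.ext (by rw [subOp_pow_coe, hS]; rfl)

theorem quotOp_pow_mk (S : End K V) (W : Submodule K V) (h : ∀ w ∈ W, S w ∈ W) (i : ℕ) (v : V) :
    ((quotOp S W h) ^ i) (Submodule.Quotient.mk v) = Submodule.Quotient.mk ((S ^ i) v) := by
  induction i generalizing v with
  | zero => rfl
  | succ i ih => rw [pow_succ, pow_succ, Module.End.mul_apply, Module.End.mul_apply]; exact ih (S v)

theorem quotOp_pow_eq_one {W : Submodule K V} (h : ∀ w ∈ W, S w ∈ W) {P : ℕ} (hS : S ^ P = 1) :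
    (quotOp S W h) ^ P = 1 :=
  Submodule.linearMap_qext _ (LinearMap.ext fun v => by
    show ((quotOp S W h) ^ P) (Submodule.Quotient.mk v) = _
    rw [quotOp_pow_mk, hS]; rfl)

include hSγ in
theorem subOp_semilinear {W : Submodule K V} (hγW : ∀ g, ∀ w ∈ W, γ g w ∈ W) (hSW : ∀ w ∈ W, S w ∈ W) :
    ∀ g, subOp S W hSW * subRep γ W hγW g = subRep γ W hγW (σ g) * subOp S W hSW := fun g =>
  LinearMap.ext fun w => Subtype.ext (LinearMap.congr_fun (hSγ g) (w : V))

include hSγ in
theorem quotOp_semilinear {W : Submodule K V} (hγW : ∀ g, ∀ w ∈ W, γ g w ∈ W) (hSW : ∀ w ∈ W, S w ∈ W) :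
    ∀ g, quotOp S W hSW * quotRep γ W hγW g = quotRep γ W hγW (σ g) * quotOp S W hSW := fun g =>
  Submodule.linearMap_qext _ (LinearMap.ext fun v =>
    congrArg Submodule.Quotient.mk (LinearMap.congr_fun (hSγ g) v))

include hSγ in
theorem ker_invariant {P : ℕ} (hP : 0 < P) (hS : S ^ P = 1) : ∀ g ∈ γ.ker, σ g ∈ γ.ker := by
  intro g hg
  rw [MonoidHom.mem_ker] at hg ⊢
  have h := hSγ g
  rw [hg, mul_one] at h
  have hSinv : S * S ^ (P - 1) = 1 := by rw [← pow_succ', Nat.sub_add_cancel hP, hS]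
  calc γ (σ g) = γ (σ g) * (S * S ^ (P - 1)) := by rw [hSinv, mul_one]
    _ = 1 := by rw [← mul_assoc, ← h, hSinv]

variable [Finite N] (A : Subgroup N) [A.Normal] (hAσ : ∀ x ∈ A, σ x ∈ A)

/-- The least positive power fixing a character. -/
theorem exists_period {P : ℕ} (hP : 0 < P) (hσ : σ ^ P = 1) (χ : A → K) :
    ∃ j, 0 < j ∧ j ∣ P ∧ (∀ a : A, χ (((subAut σ A hAσ) ^ j) a) = χ a) ∧
      ∀ i, 0 < i → i < j → ¬ ∀ a : A, χ (((subAut σ A hAσ) ^ i) a) = χ a := by
  classical
  have hex : ∃ j, 0 < j ∧ ∀ a : A, χ (((subAut σ A hAσ) ^ j) a) = χ a :=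
    ⟨P, hP, fun a => by rw [subAut_pow_eq_one σ A hAσ hσ]; rfl⟩
  obtain ⟨hj0, hjfix⟩ := Nat.find_spec hex
  refine ⟨Nat.find hex, hj0, ?_, hjfix, fun i hi hij h => Nat.find_min hex hij ⟨hi, h⟩⟩
  rw [Nat.dvd_iff_mod_eq_zero]
  by_contra hne
  refine Nat.find_min hex (Nat.mod_lt P hj0) ⟨Nat.pos_of_ne_zero hne, fun a => ?_⟩
  have h1 := aut_fix_mul A σ hAσ hjfix (P / Nat.find hex) (((subAut σ A hAσ) ^ (P % Nat.find hex)) a)
  rw [← MulAut.mul_apply, ← pow_add, Nat.div_add_mod, subAut_pow_eq_one σ A hAσ hσ] at h1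
  exact h1.symm

variable (γ) in
/-- Restriction of `γ` to the stabiliser of a character, acting on its eigenspace. -/
def stabRep {χ : A → K} (hχ : χ ∈ eigChars γ A) : charStab γ A →* End K (eigSpace γ A χ) :=
  subRep (γ.comp (charStab γ A).subtype) (eigSpace γ A χ) fun g _ hw => stab_apply_mem γ A g.2 hχ hw

include hSγ in
/-- A character whose orbit has length `L` contributes `L - 1` copies of its eigenspace to the range of `S - 1`. -/
theorem orbit_range {P : ℕ} (hP : 0 < P) (hS : S ^ P = 1) {χ : A → K} {L : ℕ}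
    (hL : ∀ i, 0 < i → i < L → ¬ ∀ a : A, χ (((subAut σ A hAσ) ^ i) a) = χ a)
    (w : ℕ → V) (hw : ∀ i, w i ∈ eigSpace γ A χ) (hw0 : ∀ i, L ≤ i + 1 → w i = 0)
    (hsum : ∑ i ∈ Finset.range L, (S - 1) ((S ^ i) (w i)) = 0) : ∀ i, w i = 0 := by
  let v : ℕ → V := fun i => (if i = 0 then 0 else w (i - 1)) - w i
  have hv : ∀ i, v i ∈ eigSpace γ A χ := fun i => sub_mem (by split <;> [exact zero_mem _; exact hw _]) (hw i)
  have hSn : ∀ i, Function.Injective ⇑(S ^ i) := fun i => by
    rw [Module.End.coe_pow]; exact (operator_injective hP hS).iterate i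
  have hvsum : ∑ i ∈ Finset.range L, (S ^ i) (v i) = 0 := by
    rcases Nat.eq_zero_or_pos L with rfl | hL0
    · simp
    rw [← hsum]
    simp only [v, map_sub, LinearMap.sub_apply, Module.End.one_apply, Finset.sum_sub_distrib]
    congr 1
    obtain ⟨l, rfl⟩ : ∃ l, L = l + 1 := ⟨L - 1, by omega⟩
    rw [Finset.sum_range_succ', Finset.sum_range_succ _ l, hw0 l le_rfl, map_zero, map_zero, add_zero]
    simp only [Nat.succ_ne_zero, if_false, if_true, Nat.add_sub_cancel, map_zero, add_zero]
    exact Finset.sum_congr rfl fun i _ => by rw [pow_succ', Module.End.mul_apply]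
  have hz := orbit_indep γ A σ hAσ hSγ (orbit_sep A σ hAσ hL) v hv hvsum
  intro i
  induction i with
  | zero =>
    rcases le_or_gt L 1 with h | h
    · exact hw0 0 h
    · have h1 := hz 0 (by omega)
      simpa [v] using h1
  | succ i ih =>
    rcases le_or_gt L (i + 1 + 1) with h | h
    · exact hw0 _ h
    · have h1 := hSn _ ((hz (i + 1) (by omega)).trans (map_zero (S ^ (i + 1))).symm)
      simpa [v, ih] using h1

include hSγ in
theorem orbit_finrank_le [FiniteDimensional K V] {P : ℕ} (hP : 0 < P) (hS : S ^ P = 1) {χ : A → K} {L : ℕ}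
    (hL : ∀ i, 0 < i → i < L → ¬ ∀ a : A, χ (((subAut σ A hAσ) ^ i) a) = χ a) :
    (L - 1) * Module.finrank K (eigSpace γ A χ) ≤ Module.finrank K (LinearMap.range (S - 1)) := by
  classical
  let Φ : (Fin (L - 1) → eigSpace γ A χ) →ₗ[K] LinearMap.range (S - 1) :=
    { toFun := fun w => ⟨(S - 1) (∑ i : Fin (L - 1), (S ^ (i : ℕ)) (w i : V)), LinearMap.mem_range_self _ _⟩
      map_add' := fun x y => Subtype.ext (by simp [Finset.sum_add_distrib]; abel)
      map_smul' := fun c x => Subtype.ext (by simp [← Finset.smul_sum]) }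
  have hΦ : Function.Injective Φ := by
    rw [← LinearMap.ker_eq_bot, LinearMap.ker_eq_bot']
    intro x hx
    have hx' : (S - 1) (∑ i : Fin (L - 1), (S ^ (i : ℕ)) (x i : V)) = 0 := congrArg Subtype.val hx
    let w : ℕ → V := fun i => if h : i < L - 1 then (x ⟨i, h⟩ : V) else 0
    have hw := orbit_range hSγ A hAσ hP hS hL w
      (fun i => by dsimp only [w]; split <;> [exact (x _).2; exact zero_mem _])
      (fun i hi => dif_neg (by omega)) (by
        rw [← map_sum]
        refine Eq.trans (congrArg _ ?_) hx'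
        rcases Nat.eq_zero_or_pos L with rfl | hL0
        · simp
        obtain ⟨l, rfl⟩ : ∃ l, L = l + 1 := ⟨L - 1, by omega⟩
        rw [Finset.sum_range_succ, show w l = 0 from dif_neg (by omega), map_zero, add_zero,
          Finset.sum_fin_eq_sum_range]
        refine Finset.sum_congr (by simp) fun i hi => ?_
        rw [Finset.mem_range] at hi
        simp only [w]
        rw [dif_pos (by omega), dif_pos (by omega)])
    funext i
    have h1 := hw i
    simp only [w] at h1
    rw [dif_pos i.2] at h1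
    exact Subtype.ext h1
  have h := LinearMap.finrank_le_finrank_of_injective hΦ
  rwa [Module.finrank_pi_fintype, Finset.sum_const, Finset.card_univ, Fintype.card_fin, smul_eq_mul] at h

end CfsgLib.GrossHeight
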