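import Cfsg.Agent.Lib.GrossHeight.Basic
import Cfsg.Agent.Lib.Solvable.Fitting
import Cfsg.Agent.Lib.PCore.Basic

/-!
A group all of whose invariant abelian normal subgroups act by scalars: the cores are of symplectic type.
-/

set_option autoImplicit false

namespace CfsgLib.GrossHeight

open Module (End)
open Cfsg
open scoped commutatorElement

variable {K V : Type*} [Field K] [AddCommGroup V] [Module K V] {N : Type*} [Group N]

/-- The elements acting by scalars. -/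
def scalars (γ : N →* End K V) [Nontrivial V] : Subgroup N where
  carrier := {g | ∃ c : K, γ g = c • 1}
  one_mem' := ⟨1, by rw [map_one, one_smul]⟩
  mul_mem' := fun {a b} ⟨c, hc⟩ ⟨d, hd⟩ => ⟨c * d, by rw [map_mul, hc, hd, smul_mul_smul_comm, mul_one]⟩
  inv_mem' := fun {a} ⟨c, hc⟩ => ⟨c⁻¹, by
    have h1 : γ a⁻¹ * γ a = 1 := by rw [← map_mul, inv_mul_cancel, map_one]
    have hc0 : c ≠ 0 := by
      rintro rfl
      rw [hc, zero_smul, mul_zero] at h1
      exact zero_ne_one h1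
    rw [hc, mul_smul_comm, mul_one] at h1
    rw [← h1, smul_smul, inv_mul_cancel₀ hc0, one_smul]⟩

variable [Nontrivial V] {γ : N →* End K V}

theorem scalars_central (hγ : Function.Injective γ) {z : N} (hz : z ∈ scalars γ) (g : N) :
    g * z = z * g := by
  obtain ⟨c, hc⟩ := hz
  exact hγ (by rw [map_mul, map_mul, hc, mul_smul_comm, mul_one, smul_mul_assoc, one_mul])

theorem scalars_normal (hγ : Function.Injective γ) : (scalars γ).Normal :=
  ⟨fun z hz g => by rwa [scalars_central hγ hz g, mul_inv_cancel_right]⟩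

theorem scalars_fixed (hγ : Function.Injective γ) {σ : MulAut N} {S : End K V} {P : ℕ} (hP : 0 < P)
    (hS : S ^ P = 1) (hSγ : ∀ g, S * γ g = γ (σ g) * S) {z : N} (hz : z ∈ scalars γ) : σ z = z := by
  obtain ⟨c, hc⟩ := hz
  have hSinv : S * S ^ (P - 1) = 1 := by rw [← pow_succ', Nat.sub_add_cancel hP, hS]
  refine hγ ?_
  calc γ (σ z) = γ (σ z) * (S * S ^ (P - 1)) := by rw [hSinv, mul_one]
    _ = (S * γ z) * S ^ (P - 1) := by rw [← mul_assoc, hSγ]
    _ = γ z := by rw [hc, mul_smul_comm, mul_one, smul_mul_assoc, hSinv]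

/-- The base configuration: invariant abelian normal subgroups act by scalars. -/
def ScalarAbelian (γ : N →* End K V) (σ : MulAut N) : Prop :=
  ∀ A : Subgroup N, A.Normal → (∀ x ∈ A, σ x ∈ A) → (∀ a ∈ A, ∀ b ∈ A, a * b = b * a) → A ≤ scalars γ

variable [Finite N] {σ : MulAut N} (hγ : Function.Injective γ) (hab : ScalarAbelian γ σ)

theorem char_invariant (σ : MulAut N) (H : Subgroup N) [H.Characteristic] : ∀ x ∈ H, σ x ∈ H :=
  fun _ hx => (Subgroup.characteristic_iff_map_le.mp inferInstance σ) (Subgroup.mem_map_of_mem σ.toMonoidHom hx)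

include hγ hab

theorem pCore_eq_bot {r : ℕ} [hr : Fact r.Prime] [CharP K r] : pCore r N = ⊥ := by
  by_contra hne
  haveI := CfsgLib.Fitting.pCore_normal (G := N) r
  have hp : IsPGroup r (pCore r N) := CfsgLib.PCore.pCore_isPGroup
  haveI : Nontrivial (pCore r N) := (pCore r N).nontrivial_iff_ne_bot.mpr hne
  set A : Subgroup N := (Subgroup.center (pCore r N)).map (pCore r N).subtype with hA
  haveI : A.Characteristic := inferInstance
  have hle : A ≤ scalars γ := hab A inferInstance (char_invariant σ A) (by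
    rintro _ ⟨a, -, rfl⟩ _ ⟨b, hb, rfl⟩
    exact congrArg Subtype.val (Subgroup.mem_center_iff.mp hb a))
  obtain ⟨a, ha, ha1⟩ := (Subgroup.nontrivial_iff_exists_ne_one _).mp
    (show Nontrivial (Subgroup.center (pCore r N)) from hp.center_nontrivial)
  obtain ⟨c, hc⟩ := hle ⟨a, ha, rfl⟩
  rw [Subgroup.coe_subtype] at hc
  obtain ⟨b, hb⟩ := hp a
  have h1 : c ^ r ^ b = 1 := by
    have h2 : γ ((a : N) ^ r ^ b) = c ^ r ^ b • 1 := by rw [map_pow, hc, smul_pow, one_pow]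
    rw [← Subgroup.coe_pow, hb, Subgroup.coe_one, map_one] at h2
    obtain ⟨v, hv⟩ := exists_ne (0 : V)
    exact smul_left_injective K hv (show c ^ r ^ b • v = (1 : K) • v by
      rw [one_smul]; exact (LinearMap.congr_fun h2 v).symm)
  have h3 : c = 1 := by
    haveI : ExpChar K r := ExpChar.prime hr.out
    exact (frobenius_inj K r).iterate b (by rw [iterate_frobenius, iterate_frobenius, h1, one_pow])
  rw [h3, one_smul, ← map_one γ] at hc
  exact ha1 (Subtype.ext (hγ hc))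

theorem commutator_mem {q : ℕ} [Fact q.Prime] {a b : N} (ha : a ∈ pCore q N) (hb : b ∈ pCore q N) :
    ⁅a, b⁆ ∈ scalars γ := by
  set Q := pCore q N with hQ
  haveI := CfsgLib.Fitting.pCore_normal (G := N) q
  haveI : Group.IsNilpotent Q := (CfsgLib.PCore.pCore_isPGroup (p := q) (G := N)).isNilpotent
  obtain ⟨k, hk⟩ := (Subgroup.isNilpotent_iff_lowerCentralSeries (S := Q)).mp inferInstance
  have hcen : ∀ H : Subgroup N, H ≤ scalars γ → ∀ J : Subgroup N, ⁅H, J⁆ = ⊥ := fun H hH J =>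
    Subgroup.commutator_eq_bot_iff_le_centralizer.mpr fun x hx g _ => scalars_central hγ (hH hx) g
  have step : ∀ j, 1 ≤ j → Q.lowerCentralSeries (j + 1) ≤ scalars γ → Q.lowerCentralSeries j ≤ scalars γ := by
    intro j hj hle
    set A := Q.lowerCentralSeries j with hA
    have hAQ : A ≤ ⁅Q, Q⁆ := by
      have := Subgroup.lowerCentralSeries_antitone Q hj
      rwa [Subgroup.lowerCentralSeries_succ, Subgroup.lowerCentralSeries_zero] at this
    have h1 : ⁅⁅Q, Q⁆, A⁆ = ⊥ := by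
      refine Subgroup.commutator_commutator_eq_bot_of_rotate ?_ ?_
      · rw [Subgroup.commutator_comm Q A]; exact hcen _ hle Q
      · exact hcen _ hle Q
    haveI : Q.Characteristic := inferInstance
    haveI : A.Characteristic := Subgroup.lowerCentralSeries_characteristic Q j
    refine hab A inferInstance (char_invariant σ A) fun x hx y hy => ?_
    have h2 : ⁅x, y⁆ ∈ ⁅⁅Q, Q⁆, A⁆ := Subgroup.commutator_mem_commutator (hAQ hx) hy
    rw [h1, Subgroup.mem_bot] at h2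
    exact commutatorElement_eq_one_iff_mul_comm.mp h2
  have key : ∀ d, Q.lowerCentralSeries (1 + d) ≤ scalars γ → Q.lowerCentralSeries 1 ≤ scalars γ := by
    intro d
    induction d with
    | zero => exact id
    | succ d ih => intro h; exact ih (step (1 + d) (Nat.le_add_right 1 d) h)
  refine key k ?_ (Subgroup.commutator_mem_commutator ha hb)
  exact (Subgroup.lowerCentralSeries_antitone Q (Nat.le_add_left k 1)).trans (hk.le.trans bot_le)

theorem comm_mul {q : ℕ} [Fact q.Prime] {a b c : N} (ha : a ∈ pCore q N) (hb : b ∈ pCore q N)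
    (hc : c ∈ pCore q N) : ⁅a * b, c⁆ = ⁅a, c⁆ * ⁅b, c⁆ := by
  have h := scalars_central hγ (commutator_mem hγ hab hb hc)
  calc ⁅a * b, c⁆ = a * ⁅b, c⁆ * a⁻¹ * ⁅a, c⁆ := by simp only [commutatorElement_def]; group
    _ = ⁅b, c⁆ * ⁅a, c⁆ := by rw [h a, mul_inv_cancel_right]
    _ = _ := (h ⁅a, c⁆).symm

theorem comm_pow {q : ℕ} [Fact q.Prime] {a c : N} (ha : a ∈ pCore q N) (hc : c ∈ pCore q N) (i : ℕ) :
    ⁅a ^ i, c⁆ = ⁅a, c⁆ ^ i := by
  induction i with
  | zero => simp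
  | succ i ih => rw [pow_succ, comm_mul hγ hab ((pCore q N).pow_mem ha i) ha hc, ih, pow_succ]

theorem pow_mem {q : ℕ} [Fact q.Prime] {a : N} (ha : a ∈ pCore q N) : a ^ q ∈ scalars γ := by
  set Q := pCore q N with hQ
  haveI := CfsgLib.Fitting.pCore_normal (G := N) q
  have hQσ : ∀ x ∈ Q, σ x ∈ Q := char_invariant σ Q
  have comm_pow_right : ∀ x ∈ Q, ∀ y ∈ Q, ∀ i : ℕ, ⁅x, y ^ i⁆ = ⁅x, y⁆ ^ i := fun x hx y hy i => by
    rw [← commutatorElement_inv (y ^ i) x, comm_pow hγ hab hy hx, ← inv_pow, commutatorElement_inv]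
  have powSub : ∀ h : ℕ, (∀ x ∈ Q, ∀ y ∈ Q, ⁅x ^ q ^ h, y ^ q ^ h⁆ = 1) → ∀ x ∈ Q, x ^ q ^ h ∈ scalars γ := by
    intro h hcomm x hx
    set A := Subgroup.closure ((fun x : N => x ^ q ^ h) '' (Q : Set N)) with hA
    have hAn : A.Normal := ⟨fun y hy g => by
      have hle : A ≤ A.comap (MulAut.conj g).toMonoidHom := by
        rw [hA, Subgroup.closure_le]
        rintro _ ⟨z, hz, rfl⟩
        exact Subgroup.subset_closure ⟨g * z * g⁻¹, Subgroup.Normal.conj_mem inferInstance z hz g,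
          by simp [conj_pow]⟩
      exact hle hy⟩
    have hAσ : ∀ y ∈ A, σ y ∈ A := by
      have hle : A ≤ A.comap σ.toMonoidHom := by
        rw [hA, Subgroup.closure_le]
        rintro _ ⟨z, hz, rfl⟩
        exact Subgroup.subset_closure ⟨σ z, hQσ z hz, (map_pow σ z _).symm⟩
      exact fun y hy => hle hy
    have hAc : A ≤ Subgroup.centralizer (A : Set N) := by
      have h1 : A ≤ Subgroup.centralizer ((fun x : N => x ^ q ^ h) '' (Q : Set N)) := by
        rw [hA, Subgroup.closure_le]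
        rintro _ ⟨z, hz, rfl⟩ _ ⟨z', hz', rfl⟩
        exact commutatorElement_eq_one_iff_mul_comm.mp (hcomm z' hz' z hz)
      rwa [← Subgroup.centralizer_closure, ← hA] at h1
    exact hab A hAn hAσ (fun u hu v hv => hAc hv u hu) (Subgroup.subset_closure ⟨x, hx, rfl⟩)
  have hdesc : ∀ j, (∀ x ∈ Q, ∀ y ∈ Q, ⁅x, y⁆ ^ q ^ (j + 1) = 1) → ∀ x ∈ Q, ∀ y ∈ Q, ⁅x, y⁆ ^ q = 1 := by
    intro j
    induction j with
    | zero => intro h; simpa using h
    | succ j ih =>
      intro h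
      refine ih fun x hx y hy => ?_
      rw [← comm_pow hγ hab hx hy]
      refine commutatorElement_eq_one_iff_mul_comm.mpr (scalars_central hγ ?_ y).symm
      refine powSub (j + 1) (fun x hx y hy => ?_) x hx
      rw [comm_pow hγ hab hx (Q.pow_mem hy _), comm_pow_right x hx y hy, ← pow_mul, ← pow_add,
        show j + 1 + (j + 1) = j + 1 + 1 + j by omega, pow_add, pow_mul, h x hx y hy, one_pow]
  obtain ⟨e, he⟩ := (CfsgLib.PCore.pCore_isPGroup (p := q) (G := N)).exists_card_eq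
  have hcomm := hdesc e fun x hx y hy => by
    have h1 : ⁅x, y⁆ ∈ Q := Q.mul_mem (Q.mul_mem (Q.mul_mem hx hy) (Q.inv_mem hx)) (Q.inv_mem hy)
    have h2 : ⁅x, y⁆ ^ q ^ e = 1 := by
      rw [← he]; exact congrArg Subtype.val (pow_card_eq_one' (x := (⟨_, h1⟩ : Q)))
    rw [pow_succ, pow_mul, h2, one_pow]
  have := powSub 1 (fun x hx y hy => by
    rw [pow_one, comm_pow hγ hab hx (Q.pow_mem hy _), comm_pow_right x hx y hy, hcomm x hx y hy,
      one_pow]) a ha
  rwa [pow_one] at this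

omit hγ hab

theorem exists_mul_mod {n i : ℕ} (hi : 0 < i) (hiP : i < 2 ^ (n + 1)) :
    ∃ l : ℕ, i * l ≡ 2 ^ n [MOD 2 ^ (n + 1)] := by
  obtain ⟨a, ha, hag⟩ := (Nat.dvd_prime_pow Nat.prime_two).1 (Nat.gcd_dvd_right i (2 ^ (n + 1)))
  have hlt : Nat.gcd i (2 ^ (n + 1)) < 2 ^ (n + 1) :=
    lt_of_le_of_lt (Nat.le_of_dvd hi (Nat.gcd_dvd_left _ _)) hiP
  have han : a ≤ n := by
    rw [hag] at hlt
    have := (Nat.pow_lt_pow_iff_right Nat.one_lt_two).1 hlt
    omega
  obtain ⟨l, -, hl⟩ := Nat.exists_mul_mod_eq_gcd hlt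
  refine ⟨l * 2 ^ (n - a), ?_⟩
  have h1 : i * l ≡ 2 ^ a [MOD 2 ^ (n + 1)] := by
    show i * l % _ = 2 ^ a % _
    rw [hl, hag, Nat.mod_eq_of_lt (by rw [← hag]; exact hlt)]
  have h2 := h1.mul_right (2 ^ (n - a))
  rwa [← pow_add, Nat.add_sub_cancel' han, mul_assoc] at h2

theorem eq_one_of_mul_self (hodd : Odd (Nat.card N)) {z : N} (h : z * z = 1) : z = 1 := by
  rw [← pow_two] at h
  rcases (Nat.dvd_prime Nat.prime_two).mp (orderOf_dvd_of_pow_eq_one h) with h1 | h1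
  · exact orderOf_eq_one_iff.mp h1
  · exact absurd (h1 ▸ Odd.of_dvd_nat hodd (orderOf_dvd_natCard z)) (by decide)

/-- The decomposition of a core by an involutory power of the operator. -/
theorem exists_decomp (hγ : Function.Injective γ) (hab : ScalarAbelian γ σ) (hodd : Odd (Nat.card N))
    {S : End K V} {n : ℕ} (hσ : σ ^ 2 ^ (n + 1) = 1) (hS : S ^ 2 ^ (n + 1) = 1)
    (hSγ : ∀ g, S * γ g = γ (σ g) * S) (q : ℕ) [Fact q.Prime] :
    ∃ R C : Subgroup N,
      (∀ a, a ∈ R ↔ a ∈ pCore q N ∧ (σ ^ 2 ^ n) a * a ∈ scalars γ) ∧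
      (∀ a, a ∈ C ↔ a ∈ pCore q N ∧ a⁻¹ * (σ ^ 2 ^ n) a ∈ scalars γ) ∧
      (∀ x ∈ R, σ x ∈ R) ∧ (∀ x ∈ C, σ x ∈ C) ∧
      (∀ x ∈ R, ∀ y ∈ C, x * y = y * x) ∧
      (∀ a ∈ pCore q N, ∃ x ∈ R, ∃ y ∈ C, a = x * y) ∧
      (∀ x : R, x ∈ Subgroup.center R ↔ (x : N) ∈ scalars γ) ∧
      (∀ x y : R, ⁅x, y⁆ ∈ Subgroup.center R) ∧
      ∀ (hR : ∀ x ∈ R, σ x ∈ R) (i : ℕ), 0 < i → i < 2 ^ (n + 1) → ∀ x : R,
        x⁻¹ * ((subAut σ R hR) ^ i) x ∈ Subgroup.center R → x ∈ Subgroup.center R := by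
  set τ := σ ^ 2 ^ n with hτdef
  have hτ : τ ^ 2 = 1 := by rw [hτdef, ← pow_mul, ← pow_succ, hσ]
  set Q := pCore q N with hQdef
  haveI := CfsgLib.Fitting.pCore_normal (G := N) q
  haveI hZn := scalars_normal hγ
  have hQσ : ∀ x ∈ Q, σ x ∈ Q := char_invariant σ Q
  have hQτ : ∀ x ∈ Q, τ x ∈ Q := fun x hx => pow_apply_mem hQσ _ x hx
  have hP : 0 < 2 ^ (n + 1) := Nat.two_pow_pos _
  have hZσ : ∀ z ∈ scalars γ, σ z = z := fun z hz => scalars_fixed hγ hP hS hSγ hz
  have hZσm : ∀ z ∈ scalars γ, σ z ∈ scalars γ := fun z hz => by rw [hZσ z hz]; exact hz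
  have hZτ : ∀ z ∈ scalars γ, τ z = z := by
    intro z hz
    have : ∀ i : ℕ, (σ ^ i) z = z := fun i => by
      induction i with
      | zero => rfl
      | succ i ih => rw [pow_succ, MulAut.mul_apply, hZσ z hz, ih]
    exact this _
  have hstτ : ∀ x, σ (τ x) = τ (σ x) := fun x => by
    rw [hτdef, ← MulAut.mul_apply, ← MulAut.mul_apply, ← pow_succ', ← pow_succ]
  have hττ : ∀ x, τ (τ x) = x := fun x => by rw [← MulAut.mul_apply, ← pow_two, hτ, MulAut.one_apply]
  -- modulo scalars the core is commutative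
  let π := QuotientGroup.mk' (scalars γ)
  have hπ : ∀ x, π x = 1 ↔ x ∈ scalars γ := fun x => QuotientGroup.eq_one_iff x
  have hπc : ∀ a ∈ Q, ∀ b ∈ Q, π a * π b = π b * π a := fun a ha b hb => by
    rw [← commutatorElement_eq_one_iff_mul_comm, ← map_commutatorElement, hπ]
    exact commutator_mem hγ hab ha hb
  let R : Subgroup N :=
    { carrier := {a | a ∈ Q ∧ τ a * a ∈ scalars γ}
      one_mem' := ⟨Q.one_mem, by rw [map_one, one_mul]; exact one_mem _⟩
      mul_mem' := fun {a b} ha hb => ⟨Q.mul_mem ha.1 hb.1, by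
        rw [← hπ, map_mul τ, map_mul, map_mul, map_mul]
        have h1 := (hπ _).mpr ha.2
        have h2 := (hπ _).mpr hb.2
        rw [map_mul] at h1 h2
        rw [mul_assoc, ← mul_assoc (π (τ b)), hπc (τ b) (hQτ b hb.1) a ha.1, mul_assoc (π a), h2, mul_one, h1]⟩
      inv_mem' := fun {a} ha => ⟨Q.inv_mem ha.1, by
        rw [← hπ, map_inv τ, map_mul, map_inv, map_inv, ← mul_inv_rev, inv_eq_one, hπc a ha.1 _ (hQτ a ha.1),
          ← map_mul, hπ]
        exact ha.2⟩ }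
  let C : Subgroup N :=
    { carrier := {a | a ∈ Q ∧ a⁻¹ * τ a ∈ scalars γ}
      one_mem' := ⟨Q.one_mem, by rw [map_one, inv_one, one_mul]; exact one_mem _⟩
      mul_mem' := fun {a b} ha hb => ⟨Q.mul_mem ha.1 hb.1, by
        rw [← QuotientGroup.eq, map_mul τ, QuotientGroup.mk_mul, QuotientGroup.mk_mul,
          QuotientGroup.eq.mpr ha.2, QuotientGroup.eq.mpr hb.2]⟩
      inv_mem' := fun {a} ha => ⟨Q.inv_mem ha.1, by
        rw [← QuotientGroup.eq, map_inv τ, QuotientGroup.mk_inv, QuotientGroup.mk_inv,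
          QuotientGroup.eq.mpr ha.2]⟩ }
  have hRC : ∀ x ∈ R, ∀ y ∈ C, x * y = y * x := by
    intro x hx y hy
    rw [← commutatorElement_eq_one_iff_mul_comm]
    have hc := commutator_mem hγ hab hx.1 hy.1
    have h1 : τ ⁅x, y⁆ = ⁅x, y⁆ := hZτ _ hc
    rw [map_commutatorElement] at h1
    have e1 : τ x = x⁻¹ * (x * τ x) := by group
    have e2 : τ y = y * (y⁻¹ * τ y) := by group
    have hxz : x * τ x ∈ scalars γ := by
      rw [← hπ, map_mul, hπc x hx.1 _ (hQτ x hx.1), ← map_mul, hπ]; exact hx.2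
    have key : ∀ a b u v : N, (∀ g, g * u = u * g) → (∀ g, g * v = v * g) → ⁅a * u, b * v⁆ = ⁅a, b⁆ := by
      intro a b u v hu hv
      calc ⁅a * u, b * v⁆ = a * (u * (b * v) * u⁻¹) * a⁻¹ * (v⁻¹ * b⁻¹) := by
            simp only [commutatorElement_def]; group
        _ = a * (b * v) * a⁻¹ * (v⁻¹ * b⁻¹) := by rw [← hu (b * v), mul_inv_cancel_right]
        _ = a * b * (v * a⁻¹ * v⁻¹) * b⁻¹ := by group
        _ = ⁅a, b⁆ := by rw [← hv a⁻¹, mul_inv_cancel_right, commutatorElement_def]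
    have h2 : ⁅τ x, τ y⁆ = ⁅x⁻¹, y⁆ := by
      rw [e1, e2]
      exact key _ _ _ _ (scalars_central hγ hxz) (scalars_central hγ hy.2)
    have h3 : ⁅x, y⁆ * ⁅x⁻¹, y⁆ = 1 := by
      rw [← comm_mul hγ hab hx.1 (Q.inv_mem hx.1) hy.1, mul_inv_cancel, commutatorElement_one_left]
    rw [← h2, h1] at h3
    exact eq_one_of_mul_self hodd h3
  have hdec : ∀ a ∈ Q, ∃ u ∈ R, ∃ v ∈ C, a = u * v := by
    intro a ha
    set t := a⁻¹ * τ a with ht
    have htQ : t ∈ Q := Q.mul_mem (Q.inv_mem ha) (hQτ a ha)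
    have htinv : τ t = t⁻¹ := by rw [ht, map_mul, map_inv, hττ, mul_inv_rev, inv_inv]
    obtain ⟨m, hm⟩ := Odd.of_dvd_nat hodd (orderOf_dvd_natCard t)
    set h := t ^ (m + 1) with hh
    have hhh : h * h = t := by
      rw [hh, ← pow_add, show m + 1 + (m + 1) = orderOf t + 1 by omega, pow_succ, pow_orderOf_eq_one, one_mul]
    have hτh : τ h = h⁻¹ := by rw [hh, map_pow, htinv, inv_pow]
    have hhR : h⁻¹ ∈ R := R.inv_mem ⟨Q.pow_mem htQ _, by rw [hτh, inv_mul_cancel]; exact one_mem _⟩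
    have hy : a * h ∈ C := ⟨Q.mul_mem ha (Q.pow_mem htQ _), by
      rw [map_mul, hτh, show (a * h)⁻¹ * (τ a * h⁻¹) = h⁻¹ * t * h⁻¹ by rw [ht]; group, ← hhh]
      simp⟩
    exact ⟨h⁻¹, hhR, a * h, hy, by rw [hRC _ hhR _ hy, mul_inv_cancel_right]⟩
  have hcenR : ∀ x : R, x ∈ Subgroup.center R ↔ (x : N) ∈ scalars γ := by
    intro x
    constructor
    · intro hx
      set J : Subgroup N := (Subgroup.center Q).map Q.subtype with hJ
      haveI : J.Characteristic := inferInstance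
      have hJle : J ≤ scalars γ := hab J inferInstance (char_invariant σ J) (by
        rintro _ ⟨a, -, rfl⟩ _ ⟨b, hb, rfl⟩
        exact congrArg Subtype.val (Subgroup.mem_center_iff.mp hb a))
      refine hJle ⟨⟨x, x.2.1⟩, Subgroup.mem_center_iff.mpr fun g => Subtype.ext ?_, rfl⟩
      obtain ⟨u, hu, v, hv, huv⟩ := hdec g g.2
      show (g : N) * x = x * g
      rw [huv, mul_assoc, ← hRC x x.2 v hv, ← mul_assoc, ← mul_assoc]
      congr 1
      exact congrArg Subtype.val (Subgroup.mem_center_iff.mp hx ⟨u, hu⟩)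
    · intro hx
      exact Subgroup.mem_center_iff.mpr fun g => Subtype.ext (scalars_central hγ hx g)
  refine ⟨R, C, fun _ => Iff.rfl, fun _ => Iff.rfl, ?_, ?_, hRC, hdec, hcenR, ?_, ?_⟩
  · intro x hx
    exact ⟨hQσ x hx.1, by rw [← hstτ, ← map_mul]; exact hZσm _ hx.2⟩
  · intro x hx
    exact ⟨hQσ x hx.1, by rw [← hstτ, ← map_inv, ← map_mul]; exact hZσm _ hx.2⟩
  · intro x y
    rw [Subgroup.mem_center_iff]
    intro g
    exact Subtype.ext (scalars_central hγ (commutator_mem hγ hab x.2.1 y.2.1) g)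
  · intro hR i hi hiP x hx
    rw [hcenR] at hx ⊢
    rw [Subgroup.coe_mul, Subgroup.coe_inv, subAut_pow_coe] at hx
    obtain ⟨l, hl⟩ := exists_mul_mod hi hiP
    have hiter : ∀ l, (x : N)⁻¹ * (σ ^ (i * l)) (x : N) ∈ scalars γ := by
      intro l
      induction l with
      | zero => simp
      | succ l ih =>
        have e : (x : N)⁻¹ * (σ ^ (i * (l + 1))) (x : N) =
            (x : N)⁻¹ * (σ ^ (i * l)) (x : N) * (σ ^ (i * l)) ((x : N)⁻¹ * (σ ^ i) (x : N)) := by
          rw [map_mul, map_inv, Nat.mul_succ, pow_add, MulAut.mul_apply]; group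
        rw [e]
        exact mul_mem ih (pow_apply_mem hZσm _ _ hx)
    have h1 : (x : N)⁻¹ * τ (x : N) ∈ scalars γ := by
      have h2 := hiter l
      rwa [show σ ^ (i * l) = τ by
        rw [hτdef, pow_eq_pow_mod (i * l) hσ, hl, ← pow_eq_pow_mod _ hσ]] at h2
    have h2 := mul_mem ((scalars γ).inv_mem h1) x.2.2
    rw [show ((x : N)⁻¹ * τ (x : N))⁻¹ * (τ (x : N) * (x : N)) =
      (τ (x : N))⁻¹ * ((x : N) * τ (x : N)) * (x : N) by group] at h2
    have h3 : (x : N) * x ∈ scalars γ := by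
      rw [← hπ] at h2 ⊢
      rw [map_mul, map_mul, map_inv, map_mul, hπc x x.2.1 _ (hQτ _ x.2.1), inv_mul_cancel_left] at h2
      rw [map_mul]; exact h2
    rw [← hπ] at h3 ⊢
    rw [map_mul, ← pow_two] at h3
    have h4 : orderOf (π x) = 1 := by
      rcases (Nat.dvd_prime Nat.prime_two).mp (orderOf_dvd_of_pow_eq_one h3) with h4 | h4
      · exact h4
      · exact absurd (h4 ▸ Odd.of_dvd_nat (Odd.of_dvd_nat hodd (orderOf_dvd_natCard (x : N)))
          (orderOf_map_dvd π (x : N))) (by decide)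
    exact orderOf_eq_one_iff.mp h4

end CfsgLib.GrossHeight
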