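import Cfsg.Agent.Lib.GrossHeight.Operator
import Cfsg.Agent.Lib.GrossHeight.Block
import Cfsg.Agent.Lib.GrossHeight.Structure

/-!
An operator of order `2 ^ (n + 1) ≥ 4` with fixed space of codimension at most two, in characteristic
`2 ^ (n + 1) - 1`: the twists of the involutory power act unipotently.
-/

set_option autoImplicit false

namespace CfsgLib.GrossHeight

open Module (End)
open Cfsg
open scoped commutatorElement

universe u v w

/-- The twists of an operator acting by a scalar act trivially. -/
theorem twists_le_ker {K V : Type*} [Field K] [AddCommGroup V] [Module K V] {N : Type*} [Group N]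
    (γ : N →* End K V) (τ : MulAut N) (e : K) (he : e ≠ 0) (T : End K V) (hT : T = e • 1)
    (hTγ : ∀ g, T * γ g = γ (τ g) * T) : twists τ ≤ γ.ker := by
  rw [twists, Subgroup.closure_le]
  rintro _ ⟨g, rfl⟩
  have h := hTγ g
  rw [hT, smul_mul_assoc, one_mul, mul_smul_comm, mul_one] at h
  rw [SetLike.mem_coe, MonoidHom.mem_ker, map_mul, ← smul_right_injective (End K V) he h, ← map_mul,
    inv_mul_cancel, map_one]

theorem two_pow_ne_zero {K : Type*} [Field K] {r : ℕ} [CharP K r] [hr : Fact r.Prime] (h2 : r ≠ 2) (i : ℕ) :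
    ((2 ^ i : ℕ) : K) ≠ 0 := by
  rw [Ne, CharP.cast_eq_zero_iff K r]
  exact fun h => h2 ((Nat.prime_dvd_prime_iff_eq hr.out Nat.prime_two).mp (hr.out.dvd_of_dvd_pow h))

set_option maxHeartbeats 1600000 in
theorem rpow_twists_of_rank {n : ℕ} (hn : 1 ≤ n) {r : ℕ} [hrf : Fact r.Prime] (hr : r + 1 = 2 ^ (n + 1))
    {K : Type w} [Field K] [IsAlgClosed K] [CharP K r] :
    ∀ (d : ℕ) {V : Type v} [AddCommGroup V] [Module K V] [FiniteDimensional K V] {N : Type u} [Group N]
      [Finite N] (γ : N →* End K V) (σ : MulAut N) (S : End K V),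
      Module.finrank K V ≤ d → Odd (Nat.card N) → Group.IsSolvable N → σ ^ 2 ^ (n + 1) = 1 →
      S ^ 2 ^ (n + 1) = 1 → (∀ g, S * γ g = γ (σ g) * S) →
      Module.finrank K (LinearMap.range (S - 1)) ≤ 2 →
      ∀ c ∈ twists (σ ^ 2 ^ n), RPow γ r c := by
  intro d
  induction d with
  | zero =>
    intro V _ _ _ N _ _ γ σ S hd _ _ _ _ _ _ c _
    haveI : Subsingleton V := Module.finrank_zero_iff.mp (Nat.le_zero.mp hd)
    exact LinearMap.ext fun v => Subsingleton.elim _ _
  | succ d ih =>
    -- the faithful case
    suffices hstep : ∀ {V : Type v} [AddCommGroup V] [Module K V] [FiniteDimensional K V] {N : Type u} [Group N]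
        [Finite N] (γ : N →* End K V) (σ : MulAut N) (S : End K V), Function.Injective γ →
        Module.finrank K V ≤ d + 1 → Odd (Nat.card N) → Group.IsSolvable N → σ ^ 2 ^ (n + 1) = 1 →
        S ^ 2 ^ (n + 1) = 1 → (∀ g, S * γ g = γ (σ g) * S) →
        Module.finrank K (LinearMap.range (S - 1)) ≤ 2 →
        ∀ c ∈ twists (σ ^ 2 ^ n), RPow γ r c by
      intro V _ _ _ N _ _ γ σ S hd hodd hsol hσ hS hSγ hrank c hc
      have hk := ker_invariant hSγ (Nat.two_pow_pos _) hS
      let σb := ModuleTrick.quotientAut σ γ.ker hk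
      have hin : Function.Injective (QuotientGroup.lift γ.ker γ le_rfl) := by
        rw [← MonoidHom.ker_eq_bot_iff, Subgroup.eq_bot_iff_forall]
        intro x hx
        obtain ⟨x, rfl⟩ := QuotientGroup.mk_surjective x
        exact (QuotientGroup.eq_one_iff x).2 hx
      refine rpow_of_map (QuotientGroup.mk' γ.ker) (QuotientGroup.lift γ.ker γ le_rfl) γ (fun _ => rfl)
        hrf.out ?_
      refine hstep _ σb S hin hd (Odd.of_dvd_nat hodd (Subgroup.card_quotient_dvd_card _))
        (by haveI := hsol; infer_instance) (ModuleTrick.quotientAut_pow_eq_one σ _ hk hσ) hS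
        (fun x => by obtain ⟨x, rfl⟩ := QuotientGroup.mk_surjective x; exact hSγ x) hrank _ ?_
      exact map_twists_le (QuotientGroup.mk' γ.ker) (σ ^ 2 ^ n) (σb ^ 2 ^ n)
        (fun g => (ModuleTrick.quotientAut_pow_mk σ γ.ker hk _ g).symm) ⟨c, hc, rfl⟩
    intro V _ _ _ N _ _ γ σ S hγ hd hodd hsol hσ hS hSγ hrank
    have hP : 0 < 2 ^ (n + 1) := Nat.two_pow_pos _
    have h2P : 2 ^ (n + 1) = 2 ^ n * 2 := pow_succ 2 n
    have hr2 : r ≠ 2 := fun e => by
      have : 2 ≤ 2 ^ n := Nat.le_self_pow (by omega) 2
      omega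
    set τ := σ ^ 2 ^ n with hτdef
    have hτ : τ ^ 2 = 1 := by rw [hτdef, ← pow_mul, ← pow_succ, hσ]
    intro c hc
    rcases subsingleton_or_nontrivial V with hV | hV
    · exact LinearMap.ext fun v => Subsingleton.elim _ _
    haveI : Nontrivial (End K V) := inferInstance
    -- reducible case
    by_cases hred : ∃ W : Submodule K V, W ≠ ⊥ ∧ W ≠ ⊤ ∧ (∀ g, ∀ w ∈ W, γ g w ∈ W) ∧ ∀ w ∈ W, S w ∈ W
    · obtain ⟨W, hW0, hW1, hγW, hSW⟩ := hred
      refine rpow_glue γ W hγW ?_ ?_
      · refine ih (subRep γ W hγW) σ (subOp S W hSW) ?_ hodd hsol hσ (subOp_pow_eq_one hSW hS)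
          (subOp_semilinear hSγ hγW hSW) ?_ c hc
        · have := Submodule.finrank_lt hW1
          omega
        · refine le_trans ?_ hrank
          rw [← Submodule.finrank_map_subtype_eq W]
          refine Submodule.finrank_mono ?_
          rintro _ ⟨_, ⟨w, rfl⟩, rfl⟩
          exact ⟨w, rfl⟩
      · refine ih (quotRep γ W hγW) σ (quotOp S W hSW) ?_ hodd hsol hσ (quotOp_pow_eq_one hSW hS)
          (quotOp_semilinear hSγ hγW hSW) ?_ c hc
        · have := Submodule.finrank_quotient_add_finrank W
          have h2 : 0 < Module.finrank K W := Nat.pos_of_ne_zero fun e => hW0 (Submodule.finrank_eq_zero.mp e)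
          omega
        · refine le_trans (le_trans (Submodule.finrank_mono ?_) (Submodule.finrank_map_le W.mkQ _)) hrank
          rintro _ ⟨x, rfl⟩
          obtain ⟨v, rfl⟩ := Submodule.Quotient.mk_surjective W x
          exact ⟨(S - 1) v, LinearMap.mem_range_self _ v, rfl⟩
    push Not at hred
    have hirr : ∀ W : Submodule K V, (∀ g, ∀ w ∈ W, γ g w ∈ W) → (∀ w ∈ W, S w ∈ W) → W = ⊥ ∨ W = ⊤ :=
      fun W h1 h2 => by
        by_contra h
        push Not at h
        obtain ⟨w, hw, hw'⟩ := hred W h.1 h.2 h1
        exact hw' (h2 w hw)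
    by_cases hA : ∃ A : Subgroup N, A.Normal ∧ (∀ x ∈ A, σ x ∈ A) ∧ (∀ a ∈ A, ∀ b ∈ A, a * b = b * a) ∧
        ¬ A ≤ scalars γ
    · -- some abelian normal subgroup decomposes the space
      obtain ⟨A, hAn, hAσ, hAc, hAs⟩ := hA
      have htop := eq_top_of_irreducible σ hP hS hSγ hAc hAσ hirr
      set H := charStab γ A with hH
      have hHσ := charStab_invariant γ A σ hAσ hP hS hSγ
      have hproper : ∀ χ : A → K, eigSpace γ A χ ≠ ⊤ := fun χ h => hAs fun a ha =>
        ⟨χ ⟨a, ha⟩, LinearMap.ext fun v => (show v ∈ eigSpace γ A χ from h ▸ Submodule.mem_top) ⟨a, ha⟩⟩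
      have hperiod : ∀ χ ∈ eigChars γ A, ∃ j, (j = 1 ∨ (j = 2 ∧ Module.finrank K (eigSpace γ A χ) ≤ 2)) ∧
          (∀ a : A, χ (((subAut σ A hAσ) ^ j) a) = χ a) ∧
          ∀ i, 0 < i → i < j → ¬ ∀ a : A, χ (((subAut σ A hAσ) ^ i) a) = χ a := by
        intro χ hχ
        obtain ⟨j, hj0, hjP, hjfix, hjmin⟩ := exists_period A hAσ hP hσ χ
        refine ⟨j, ?_, hjfix, hjmin⟩
        have h1 := (orbit_finrank_le hSγ A hAσ hP hS hjmin).trans hrank
        have h2 : 0 < Module.finrank K (eigSpace γ A χ) :=
          Nat.pos_of_ne_zero fun e => hχ (Submodule.finrank_eq_zero.mp e)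
        have h3 : j - 1 ≤ (j - 1) * Module.finrank K (eigSpace γ A χ) := Nat.le_mul_of_pos_right _ h2
        obtain ⟨i, -, rfl⟩ := (Nat.dvd_prime_pow Nat.prime_two).mp hjP
        rcases i with _ | _ | i
        · exact Or.inl rfl
        · exact Or.inr ⟨rfl, by simpa using h1⟩
        · exfalso
          have : 4 ≤ 2 ^ (i + 1 + 1) := by
            rw [pow_succ, pow_succ]; have := Nat.one_le_two_pow (n := i); omega
          omega
      have hAτ : ∀ x ∈ A, τ x ∈ A := fun x hx => pow_apply_mem hAσ _ x hx
      have hfix : ∀ χ ∈ eigChars γ A, ∀ a : A, χ ⟨τ a, hAτ a a.2⟩ = χ a := by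
        intro χ hχ a
        obtain ⟨j, hj, hjfix, -⟩ := hperiod χ hχ
        obtain ⟨l, hl⟩ : j ∣ 2 ^ n := by
          rcases hj with rfl | ⟨rfl, -⟩
          · exact one_dvd _
          · exact dvd_pow_self 2 (by omega)
        have h1 := aut_fix_mul A σ hAσ hjfix l a
        rw [← hl] at h1
        rw [← h1]
        exact congrArg χ (Subtype.ext (subAut_pow_coe σ A hAσ _ a).symm)
      have hmem := twist_mem_charStab γ A τ hτ hAτ hfix
      set σH := subAut σ H hHσ with hσH
      obtain ⟨c', hc', rfl⟩ := twists_le_map hodd τ hτ H hmem (σH ^ 2 ^ n)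
        (fun y => subAut_pow_coe σ H hHσ _ y) hc
      have hHodd : Odd (Nat.card H) := Odd.of_dvd_nat hodd (Subgroup.card_subgroup_dvd_card H)
      have hHsol : Group.IsSolvable H := by haveI := hsol; infer_instance
      have hcomp : ∀ χ (hχ : χ ∈ eigChars γ A), RPow (stabRep γ A hχ) r c' := by
        intro χ hχ
        obtain ⟨j, hj, hjfix, hjmin⟩ := hperiod χ hχ
        set W := eigSpace γ A χ with hW
        have hSj : ∀ w ∈ W, (S ^ j) w ∈ W := fun w hw => pow_mem_of_fix γ A σ hAσ hSγ hjfix hw
        have hsemi : ∀ i (hi : ∀ w ∈ W, (S ^ i) w ∈ W) (g : H),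
            subOp (S ^ i) W hi * stabRep γ A hχ g = stabRep γ A hχ ((σH ^ i) g) * subOp (S ^ i) W hi :=
          fun i hi g => LinearMap.ext fun w => Subtype.ext (by
            have := LinearMap.congr_fun (pow_conj γ σ hSγ i (g : N)) (w : V)
            rw [← subAut_pow_coe σ H hHσ i g] at this
            exact this)
        rcases hj with rfl | ⟨rfl, hdim⟩
        · have hS1 : ∀ w ∈ W, S w ∈ W := by simpa using hSj
          refine ih (stabRep γ A hχ) σH (subOp S W hS1) ?_ hHodd hHsol (subAut_pow_eq_one σ H hHσ hσ)
            (subOp_pow_eq_one hS1 hS) (fun g => ?_) ?_ c' hc'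
          · have := Submodule.finrank_lt (hproper χ)
            omega
          · exact LinearMap.ext fun w => Subtype.ext (LinearMap.congr_fun (hSγ (g : N)) (w : V))
          · refine le_trans ?_ hrank
            rw [← Submodule.finrank_map_subtype_eq W]
            refine Submodule.finrank_mono ?_
            rintro _ ⟨_, ⟨w, rfl⟩, rfl⟩
            exact ⟨w, rfl⟩
        · -- the involutory power is a scalar here
          set S2 := subOp (S ^ 2) W hSj with hS2
          obtain ⟨m, hm⟩ : ∃ m, 2 ^ n = 2 * m := dvd_pow_self 2 (by omega)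
          have hS2P : S2 ^ (2 * m) = 1 := subOp_pow_eq_one hSj (by rw [← pow_mul, show 2 * (2 * m) = 2 ^ (n + 1) by omega, hS])
          have hscal : ∃ e : K, S2 = e • 1 := by
            rcases lt_or_eq_of_le hdim with hlt | heq
            · have hpos : 0 < Module.finrank K W :=
                Nat.pos_of_ne_zero fun e => hχ (Submodule.finrank_eq_zero.mp e)
              obtain ⟨b, hb0, hb⟩ := finrank_eq_one_iff'.mp (show Module.finrank K W = 1 by omega)
              obtain ⟨e, he⟩ := hb (S2 b)
              refine ⟨e, LinearMap.ext fun x => ?_⟩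
              obtain ⟨a, rfl⟩ := hb x
              rw [map_smul, ← he, LinearMap.smul_apply, Module.End.one_apply, smul_comm]
            · refine ⟨1, ?_⟩
              let f : W →ₗ[K] LinearMap.range (S - 1) :=
                LinearMap.codRestrict _ ((S - 1) ∘ₗ W.subtype) fun x => LinearMap.mem_range_self _ _
              have hf : Function.Injective f := by
                rw [← LinearMap.ker_eq_bot, LinearMap.ker_eq_bot']
                intro x hx
                refine Subtype.ext (orbit_range hSγ A hAσ hP hS hjmin (fun i => if i = 0 then (x : V) else 0)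
                  (fun i => by split <;> [exact x.2; exact zero_mem _])
                  (fun i hi => if_neg (by omega)) ?_ 0)
                rw [Finset.sum_range_succ, Finset.sum_range_one, if_pos rfl, if_neg one_ne_zero, map_zero,
                  map_zero, add_zero, pow_zero]
                exact congrArg Subtype.val hx
              have hsurj : Function.Surjective f :=
                LinearMap.range_eq_top.mp (Submodule.eq_top_of_finrank_eq (le_antisymm
                  (Submodule.finrank_le _) (by rw [LinearMap.finrank_range_of_inj hf]; omega)))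
              refine LinearMap.ext fun x => ?_
              obtain ⟨y, hy⟩ := hsurj ⟨(S - 1) (S x), LinearMap.mem_range_self _ _⟩
              have hy' : (S - 1) (y : V) = (S - 1) (S x) := congrArg Subtype.val hy
              rw [LinearMap.sub_apply, LinearMap.sub_apply, Module.End.one_apply, Module.End.one_apply] at hy'
              let u : ℕ → V := fun i => if i = 0 then (S ^ 2) (x : V) + y else if i = 1 then -((x : V) + y) else 0
              have hu : ∀ i, u i ∈ W := fun i => by
                dsimp only [u]
                split_ifs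
                · exact add_mem (hSj x x.2) y.2
                · exact neg_mem (add_mem x.2 y.2)
                · exact zero_mem _
              have h0 := orbit_indep γ A σ hAσ hSγ (orbit_sep A σ hAσ hjmin) u hu (by
                rw [Finset.sum_range_succ, Finset.sum_range_one]
                show (S ^ 0) ((S ^ 2) (x : V) + y) + (S ^ 1) (-((x : V) + y)) = 0
                rw [pow_zero, pow_one, Module.End.one_apply, map_neg, map_add, pow_two, Module.End.mul_apply,
                  show S (S (x : V)) = S (y : V) - y + S (x : V) by rw [hy']; abel]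
                abel)
              have h1 : (x : V) + y = 0 := by
                have := h0 1 (by omega)
                simp only [u, one_ne_zero, if_false, if_true, pow_one, map_neg, neg_eq_zero] at this
                exact operator_injective hP hS (this.trans (map_zero S).symm)
              have h2 : (S ^ 2) (x : V) + y = 0 := by simpa [u] using h0 0 (by omega)
              rw [one_smul]
              refine Subtype.ext ?_
              show (S ^ 2) (x : V) = x
              exact add_right_cancel (h2.trans h1.symm)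
          obtain ⟨e, he⟩ := hscal
          haveI : Nontrivial W := Submodule.nontrivial_iff_ne_bot.mpr hχ
          have he0 : e ≠ 0 := by
            rintro rfl
            rw [he, zero_smul, zero_pow (by have := Nat.two_pow_pos n; omega)] at hS2P
            exact zero_ne_one hS2P
          have hle : twists (σH ^ 2 ^ n) ≤ (stabRep γ A hχ).ker := by
            refine twists_le_ker (stabRep γ A hχ) (σH ^ 2 ^ n) (e ^ m) (pow_ne_zero _ he0) (S2 ^ m)
              (by rw [he, smul_pow, one_pow]) fun g => ?_
            have h1 : (σH ^ 2) ^ m = σH ^ 2 ^ n := by rw [← pow_mul, hm]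
            rw [← h1]
            exact pow_conj (stabRep γ A hχ) (σH ^ 2) (hsemi 2 hSj) m g
          exact rpow_of _ hrf.out (b := 0) (by rw [pow_zero, pow_one]; exact hle hc')
      refine rpow_subtype γ H ?_
      show γ ((c' ^ r ^ orderOf c' : H) : N) = 1
      refine LinearMap.ext fun v => ?_
      induction (show v ∈ ⨆ χ : eigChars γ A, eigSpace γ A (χ : A → K) by rw [htop]; trivial) using
        Submodule.iSup_induction' with
      | mem χ v hv => exact congrArg Subtype.val (LinearMap.congr_fun (hcomp χ χ.2) ⟨v, hv⟩)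
      | zero => simp
      | add x y _ _ hx hy => simp only [map_add, hx, hy, Module.End.one_apply]
    -- the base configuration
    push Not at hA
    have hab : ScalarAbelian γ σ := fun A h1 h2 h3 => hA A h1 h2 h3
    haveI := hsol
    have hfixF : ∀ q : ℕ, q.Prime → ∀ a ∈ pCore q N, τ a = a := by
      intro q hq
      haveI := Fact.mk hq
      obtain ⟨R, C, hRdef, hCdef, hRσ, -, hRC, hdec, hcenR, hclR, hfree⟩ :=
        exists_decomp hγ hab hodd hσ hS hSγ q
      by_cases hR1 : R ≤ scalars γ
      · intro a ha
        obtain ⟨x, hx, y, hy, rfl⟩ := hdec a ha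
        have hfixz : ∀ z ∈ scalars γ, τ z = z := fun z hz => by
          have : ∀ i : ℕ, (σ ^ i) z = z := fun i => by
            induction i with
            | zero => rfl
            | succ i ih => rw [pow_succ, MulAut.mul_apply, scalars_fixed hγ hP hS hSγ hz, ih]
          exact this _
        rw [map_mul, hfixz x (hR1 hx), fixed_of_step hodd τ hτ (hfixz _ ((hCdef y).mp hy).2)]
      · exfalso
        haveI : Nontrivial V := hV
        have hq2 : IsPGroup q R := (CfsgLib.PCore.pCore_isPGroup (p := q) (G := N)).to_le fun a ha => ((hRdef a).mp ha).1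
        obtain ⟨hidx, hP4⟩ := block_of_rank_le_two (γ.comp R.subtype) (hγ.comp R.subtype_injective)
          (fun z hz => (hcenR z).mp hz) hclR
          (fun h => hR1 fun x hx => (hcenR ⟨x, hx⟩).mp (h ▸ Subgroup.mem_top _))
          (subAut σ R hRσ) (subAut_pow_eq_one σ R hRσ hσ) S hS (fun a => hSγ a) (hfree hRσ)
          (by rw [h2P]; have : 2 ≤ 2 ^ n := Nat.le_self_pow (by omega) 2; omega) (two_pow_ne_zero hr2 _)
          (Odd.of_dvd_nat hodd (Subgroup.card_subgroup_dvd_card R)) hrank
        obtain ⟨j, hj⟩ := hq2.exists_card_eq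
        have h9 : 9 ∣ Nat.card R := hidx ▸ Subgroup.index_dvd_card _
        rw [hj] at h9
        have hdvd : 3 ∣ q := Nat.prime_three.dvd_of_dvd_pow (dvd_trans (by norm_num) h9)
        obtain rfl : r = q := by
          rw [← (Nat.prime_dvd_prime_iff_eq Nat.prime_three hq).mp hdvd]
          omega
        refine hR1 fun x hx => ?_
        have hbot := pCore_eq_bot hγ hab (r := r)
        have h1 := ((hRdef x).mp hx).1
        rw [hbot, Subgroup.mem_bot] at h1
        rw [h1]
        exact one_mem _
    have hF : fittingSubgroup N ≤ MonoidHom.eqLocus τ.toMonoidHom (MonoidHom.id N) := by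
      rw [CfsgLib.Fitting.fitting_eq_iSup_pCore]
      exact iSup_le fun p a ha => hfixF p (Nat.prime_of_mem_primeFactors p.2) a ha
    have hfixall : ∀ g, τ g = g := by
      intro g
      haveI := CfsgLib.Fitting.fitting_normal (G := N)
      refine fixed_of_step hodd τ hτ (hF (CfsgLib.Fitting.centralizer_fitting_le ?_))
      rw [Subgroup.mem_centralizer_iff]
      intro f hf
      have h1 : τ (g * f * g⁻¹) = g * f * g⁻¹ := hF (Subgroup.Normal.conj_mem inferInstance f hf g)
      rw [map_mul, map_mul, map_inv, show τ f = f from hF hf] at h1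
      calc f * (g⁻¹ * τ g) = g⁻¹ * (g * f * g⁻¹) * τ g := by group
        _ = g⁻¹ * τ g * f := by rw [← h1]; group
    have hbot : twists τ = ⊥ := by
      rw [eq_bot_iff, twists, Subgroup.closure_le]
      rintro _ ⟨g, rfl⟩
      show g⁻¹ * τ g ∈ (⊥ : Subgroup N)
      rw [hfixall g, inv_mul_cancel]
      exact one_mem _
    rw [hbot, Subgroup.mem_bot] at hc
    subst hc
    exact rpow_of γ hrf.out (b := 0) (by simp)

end CfsgLib.GrossHeight
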